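import Groth.Agent.CycB.RelDim4
import Groth.Agent.CycB.SetupLft

/-!
# Relative dimension: composition with an isomorphism, base change of the second projection
-/

set_option autoImplicit false
universe u

open CategoryTheory AlgebraicGeometry CategoryTheory.Limits

namespace K306.RelDimIso

open Groth.Agent.CycB.RelDim

/-- Relative dimension is invariant under an isomorphism of the source. -/
theorem hasRelDim_iso_comp {X X' Y : Scheme.{u}} (e : X' ⟶ X) [IsIso e] (f : X ⟶ Y)
    [LocallyOfFiniteType f] {r : ℕ} (hr : Cyc.HasRelDim f r) : Cyc.HasRelDim (e ≫ f) r := by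
  rw [hasRelDim_iff]
  intro x hx
  have h1 : FibGeneric f (e x) := by
    intro y hy hsp
    have hey : e ((inv e) y) = y := by
      change ((inv e) ≫ e) y = y
      rw [IsIso.inv_hom_id]; rfl
    have hex : (inv e) (e x) = x := by
      change (e ≫ (inv e)) x = x
      rw [IsIso.hom_inv_id]; rfl
    have h2 : (inv e) y = x := by
      refine hx _ ?_ ?_
      · change f (e ((inv e) y)) = f (e x)
        rw [hey, hy]
      · have := hsp.map (inv e).continuous
        rwa [hex] at this
    rw [← hey, h2]
  rw [rtd_comp, rtd_of_fibGeneric hr h1, rtd_eq_zero_of_isPreimmersion, add_zero]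

/-- Relative dimension is stable under base change (second projection). -/
theorem hasRelDim_snd {X Y S : Scheme.{u}} {f : X ⟶ S} {g : Y ⟶ S} [LocallyOfFiniteType f] {r : ℕ}
    (hr : Cyc.HasRelDim f r) : Cyc.HasRelDim (pullback.snd f g) r := by
  have h := hasRelDim_iso_comp (pullbackSymmetry f g).hom (pullback.fst g f)
    (hasRelDim_fst (f := g) (g := f) hr)
  rwa [pullbackSymmetry_hom_comp_fst] at h

end K306.RelDimIso
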