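import Groth.Agent.Cyc.K306.ChowIt
import Groth.Agent.IntTh.K711.Strata
import Groth.Agent.S1930

/-!
# The cycle of a point; capping with an effective Cartier divisor on an integral scheme
-/

set_option autoImplicit false
universe u
open CategoryTheory AlgebraicGeometry CategoryTheory.Limits Opposite

namespace K306.PtCyc

open Groth.Agent Groth.Agent.CycB K930.Chow K930.PushPull K930.OKs K930.Gysin Cyc FinRat
open Groth.Agent.CycB.C1Pull Groth.Agent.CycB.GysinCl

variable {X Y D : Scheme.{u}} {δ : X → ℤ} {δY : Y → ℤ}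

/-- The cycle of (the closure of) a point. -/
noncomputable def ptCyc (w : X) : AlgebraicCycle X ℤ :=
  ⟨pt w, by simp, fun z _ => ⟨Set.univ, Filter.univ_mem, by
    simpa using (Set.finite_singleton w).subset fun x hx => by
      by_contra h
      exact hx (pt_of_ne h)⟩⟩

@[simp] theorem ptCyc_coe (w : X) : ⇑(ptCyc w) = pt w := rfl

theorem ptCyc_self (w : X) : ptCyc w w = 1 := pt_self w

theorem ptCyc_of_ne {w x : X} (h : x ≠ w) : ptCyc w x = 0 := pt_of_ne h

theorem ptCyc_mem {w : X} {k : ℤ} (h : δ w = k) : ptCyc w ∈ Zk X δ k := by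
  intro x hx
  exact ptCyc_of_ne fun e => hx (e ▸ h)

theorem map_ptCyc_imm (i : Y ⟶ X) [IsClosedImmersion i] (hi : DeltaCompat i δY δ) (w : Y) :
    AlgebraicCycle.map i δY δ (ptCyc w) = ptCyc (i w) := by
  obtain rfl := deltaCompat_eq_comp i hi
  apply DFunLike.coe_injective
  funext x
  by_cases hx : x ∈ Set.range ⇑i
  · obtain ⟨y, rfl⟩ := hx
    rw [DivNat.map_apply_of_isPreimmersion i _ _ _ _ rfl]
    by_cases h : y = w
    · subst h; rw [ptCyc_self, ptCyc_self]
    · rw [ptCyc_of_ne h, ptCyc_of_ne fun h' => h (i.isClosedEmbedding.injective h')]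
  · rw [DivNat.map_apply_notMem_range i _ _ _ _ hx, ptCyc_of_ne]
    rintro rfl
    exact hx ⟨w, rfl⟩

theorem c1CapFun_pt (δ : X → ℤ) (L : X.Modules) (w : X) (s : (ξ : X) → secFibre L ξ) :
    c1CapFun δ L (pt w) s = secDivFun δ L w (s w) := by
  funext x
  unfold c1CapFun
  rw [finsum_eq_single _ w]
  · rw [pt_self, one_mul]
  · intro ξ hξ
    rw [pt_of_ne hξ, zero_mul]

theorem length_stalk_generic [IsIntegral D] :
    Module.length (D.presheaf.stalk (genericPoint D)) (D.presheaf.stalk (genericPoint D)) = 1 := by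
  have h : IsField (D.presheaf.stalk (genericPoint D)) :=
    Field.toIsField D.functionField
  let := h.toField
  exact Module.length_eq_one _ _

/-- A cycle supported on a closed subscheme is a pushforward. -/
theorem map_comapCycle (i : Y ⟶ X) [IsClosedImmersion i] (hi : DeltaCompat i δY δ)
    {α : AlgebraicCycle X ℤ} (hα : ∀ x, x ∉ Set.range ⇑i → α x = 0) :
    AlgebraicCycle.map i δY δ
      (RatTransport.comapCycle i i.isClosedEmbedding.injective α) = α := by
  obtain rfl := deltaCompat_eq_comp i hi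
  apply DFunLike.coe_injective
  funext x
  by_cases hx : x ∈ Set.range ⇑i
  · obtain ⟨y, rfl⟩ := hx
    rw [DivNat.map_apply_of_isPreimmersion i _ _ _ _ rfl, RatTransport.comapCycle_apply]
  · rw [DivNat.map_apply_notMem_range i _ _ _ _ hx, hα x hx]

theorem exists_pushCH_eq (i : Y ⟶ X) [IsClosedImmersion i] (hX : IsSetup X δ)
    (hi : DeltaCompat i δY δ) {k : ℤ} {α : AlgebraicCycle X ℤ} (hα : α ∈ Zk X δ k)
    (h0 : ∀ x, x ∉ Set.range ⇑i → α x = 0) :
    ∃ y, pushCH i hX hi k y = ChowOps.cl α hα := by
  refine ⟨ChowOps.cl (RatTransport.comapCycle i i.isClosedEmbedding.injective α) ?_, ?_⟩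
  · obtain rfl := deltaCompat_eq_comp i hi
    exact RatTransport.comapCycle_mem_Zk i _ δ k α hα
  · exact pushCH_cl' i hX hi k _ _ _ _ (map_comapCycle i hi h0)

/-- A cycle of maximal dimension on an irreducible scheme is a multiple of the fundamental cycle. -/
theorem eq_smul_ptCyc [IrreducibleSpace X] (hδ : IsDimFun X δ) {k : ℤ}
    (hk : δ (genericPoint X) = k) {α : AlgebraicCycle X ℤ} (hα : α ∈ Zk X δ k) :
    α = α (genericPoint X) • ptCyc (genericPoint X) := by
  apply DFunLike.coe_injective
  funext x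
  rw [Function.locallyFinsuppWithin.coe_zsmul, Pi.smul_apply, smul_eq_mul]
  by_cases hx : x = genericPoint X
  · subst hx
    rw [ptCyc_self, mul_one]
  · rw [ptCyc_of_ne hx, mul_zero]
    refine hα x fun h => ?_
    have := (hδ _ _ (genericPoint_specializes x) (Ne.symm hx)).1
    omega

/-- Capping the fundamental class of an integral scheme with an effective Cartier divisor which is
integral. -/
theorem c1CH_generic [IsIntegral X] [IsIntegral D] (hX : IsSetup X δ) {L : X.Modules}
    (hL : PicF.IsInvertible L) (s : L.presheaf.obj (op ⊤)) (i : D ⟶ X) [IsClosedImmersion i]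
    {δD : D → ℤ} (hi : DeltaCompat i δD δ) (hD : IsZeroSchemeOf i L s)
    (hne : genericPoint X ∉ Set.range ⇑i) {k l : ℤ} (hk : δ (genericPoint X) = k)
    (hl : δD (genericPoint D) = l) (h : k = l + 1) :
    c1CH hX hL h (ChowOps.cl (ptCyc (genericPoint X)) (ptCyc_mem hk)) =
      pushCH i hX hi l (ChowOps.cl (ptCyc (genericPoint D)) (ptCyc_mem hl)) := by
  obtain rfl := deltaCompat_eq_comp i hi
  have hv : val L s (genericPoint X) ≠ 0 := fun h0 => hne ((mem_range_iff hD _).2 h0)
  have hs : (L.presheaf.germ ⊤ (genericPoint X) trivial) s ≠ 0 := by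
    intro h0
    apply hv
    rw [val_eq, h0, map_zero]
  have hw := gysinChoice_ne_zero s (nz_ne_zero hL)
  have hval : gysinChoice L s (nz hL) (genericPoint X) = val L s (genericPoint X) :=
    gysinChoice_of_ne s (nz hL) hv
  have key : ⇑(AlgebraicCycle.map i (fun d => δ (i d)) δ (ptCyc (genericPoint D))) =
      c1CapFun δ L ⇑(ptCyc (genericPoint X)) (gysinChoice L s (nz hL)) := by
    rw [ptCyc_coe, c1CapFun_pt, hval, map_ptCyc_imm i hi]
    funext x
    by_cases hx : x ∈ Set.range ⇑i
    · obtain ⟨d, rfl⟩ := hx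
      rw [S1930.secDivFun_eq_subschemeFun X D δ hX k hk L hL s hs i hD d, C1Fin.subschemeFun_id]
      by_cases hd : d = genericPoint D
      · subst hd
        rw [ptCyc_self, if_pos (by dsimp only at hl; omega), length_stalk_generic]
        rfl
      · rw [ptCyc_of_ne fun h' => hd (i.isClosedEmbedding.injective h'), if_neg]
        intro h1
        have h2 := (hX.2.2 (i (genericPoint D)) (i d)
          ((genericPoint_specializes d).map i.continuous)
          fun h' => hd (i.isClosedEmbedding.injective h').symm).1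
        dsimp only at hl
        omega
    · rw [ptCyc_of_ne, secDivFun_val_eq_zero hL δ s fun h0 => hx ((mem_range_iff hD _).2 h0)]
      rintro rfl
      exact hx ⟨_, rfl⟩
  rw [pushCH_cl]
  exact c1CH_cl hX hL h _ (ptCyc_mem hk) _ hw _ key _

end K306.PtCyc
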