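import Groth.Agent.Bivar.K930.OKs

/-!
# Iterated caps with the first Chern class on Chow groups
-/

set_option autoImplicit false
universe u
open CategoryTheory AlgebraicGeometry CategoryTheory.Limits Opposite

namespace K306.ChowIt

open Groth.Agent Groth.Agent.CycB K930.Chow K930.PushPull K930.OKs Cyc
open Groth.Agent.CycB.C1Pull

variable {X Y : Scheme.{u}} {δ : X → ℤ} {δY : Y → ℤ}

/-- The `m`-fold iterate of `c_1(L) ∩ -` on Chow groups. -/
noncomputable def c1It (hX : IsSetup X δ) {L : X.Modules} (hL : PicF.IsInvertible L) :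
    (m : ℕ) → {k l : ℤ} → (k = l + m) → (ChowOps.CH X δ k →+ ChowOps.CH X δ l)
  | 0, _, _, h => (Bivar.chCast X δ (by simpa using h)).toAddMonoidHom
  | m + 1, k, l, h => (c1CH hX hL (rfl : l + 1 = l + 1)).comp
      (c1It hX hL m (k := k) (l := l + 1) (by rw [h]; push_cast; ring))

variable (hX : IsSetup X δ) {L : X.Modules} (hL : PicF.IsInvertible L)

theorem c1It_zero {k l : ℤ} (h : k = l + (0 : ℕ)) (x : ChowOps.CH X δ k) :
    c1It hX hL 0 h x = Bivar.chCast X δ (by simpa using h) x := rfl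

theorem c1It_zero' {k : ℤ} (h : k = k + (0 : ℕ)) (x : ChowOps.CH X δ k) :
    c1It hX hL 0 h x = x := rfl

theorem c1It_succ {m : ℕ} {k l l' : ℤ} (h : k = l + (m + 1 : ℕ)) (h1 : l' = l + 1)
    (h2 : k = l' + m) (x : ChowOps.CH X δ k) :
    c1It hX hL (m + 1) h x = c1CH hX hL h1 (c1It hX hL m h2 x) := by
  subst h1; rfl

theorem c1It_chCast {m : ℕ} {k k' l l' : ℤ} (h : k = l + m) (h' : k' = l' + m) (e : k = k')
    (e' : l = l') (x : ChowOps.CH X δ k) :
    c1It hX hL m h' (Bivar.chCast X δ e x) = Bivar.chCast X δ e' (c1It hX hL m h x) := by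
  subst e e'; rfl

theorem c1It_one {k l : ℤ} (h : k = l + (1 : ℕ)) (h' : k = l + 1) (x : ChowOps.CH X δ k) :
    c1It hX hL 1 h x = c1CH hX hL h' x := by
  subst h'
  rfl

theorem c1It_succ' {m : ℕ} {k k' l : ℤ} (h : k = l + (m + 1 : ℕ)) (h1 : k = k' + 1)
    (h2 : k' = l + m) (x : ChowOps.CH X δ k) :
    c1It hX hL (m + 1) h x = c1It hX hL m h2 (c1CH hX hL h1 x) := by
  induction m generalizing l with
  | zero =>
    have e : k' = l := by simpa using h2
    subst e
    rw [c1It_zero', c1It_one]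
  | succ m ih =>
    have h3 : k = (l + 1) + ((m + 1 : ℕ) : ℤ) := by rw [h]; push_cast; ring
    have h4 : k' = (l + 1) + (m : ℤ) := by rw [h2]; push_cast; ring
    rw [c1It_succ hX hL h rfl h3, c1It_succ hX hL h2 rfl h4]
    congr 1
    exact ih h3 h4

theorem c1It_c1It {m m' : ℕ} {k l l' : ℤ} (h : k = l + m) (h' : l = l' + m')
    (h'' : k = l' + (m + m' : ℕ)) (x : ChowOps.CH X δ k) :
    c1It hX hL m' h' (c1It hX hL m h x) = c1It hX hL (m + m') h'' x := by
  induction m' generalizing l' with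
  | zero =>
    have e : l = l' := by simpa using h'
    subst e
    rfl
  | succ m' ih =>
    have h3 : l = (l' + 1) + (m' : ℤ) := by rw [h']; push_cast; ring
    have h4 : k = (l' + 1) + ((m + m' : ℕ) : ℤ) := by rw [h'']; push_cast; ring
    rw [c1It_succ hX hL h' rfl h3, ih h3 h4]
    exact (c1It_succ (m := m + m') hX hL h'' rfl h4 x).symm

/-- The iterated caps computed with chosen rational sections are cycles representing the iterated
cap on Chow groups. -/
theorem exists_c1It_cl {α : AlgebraicCycle X ℤ} {t : ℕ → (ξ : X) → secFibre L ξ}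
    (ht : ∀ i ξ, t i ξ ≠ 0) {γ : ℕ → X → ℤ} (hγ0 : γ 0 = ⇑α)
    (hγs : ∀ i : ℕ, γ (i + 1) = c1CapFun δ L (γ i) (t i)) (m : ℕ) :
    ∃ β : AlgebraicCycle X ℤ, ⇑β = γ m ∧ ∀ {k l : ℤ} (h : k = l + m) (hα : α ∈ Zk X δ k),
      ∃ hβ : β ∈ Zk X δ l, c1It hX hL m h (ChowOps.cl α hα) = ChowOps.cl β hβ := by
  induction m with
  | zero =>
    refine ⟨α, hγ0.symm, fun {k l} h hα => ?_⟩
    have e : k = l := by simpa using h
    subst e
    exact ⟨hα, rfl⟩
  | succ m ih =>
    obtain ⟨β, hβ, hβ'⟩ := ih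
    obtain ⟨β₁, hβ₁⟩ := exists_c1 hX hL β (ht m)
    refine ⟨β₁, by rw [hβ₁, hγs, hβ], fun {k l} h hα => ?_⟩
    have h2 : k = (l + 1) + (m : ℤ) := by rw [h]; push_cast; ring
    obtain ⟨hm, e⟩ := hβ' h2 hα
    refine ⟨c1_mem rfl hm hβ₁, ?_⟩
    rw [c1It_succ hX hL h rfl h2, e]
    exact c1CH_cl hX hL rfl β hm (t m) (ht m) β₁ hβ₁ _

theorem c1It_cl {α β : AlgebraicCycle X ℤ} {t : ℕ → (ξ : X) → secFibre L ξ}
    (ht : ∀ i ξ, t i ξ ≠ 0) {γ : ℕ → X → ℤ} (hγ0 : γ 0 = ⇑α)
    (hγs : ∀ i : ℕ, γ (i + 1) = c1CapFun δ L (γ i) (t i)) {m : ℕ} (hβ : ⇑β = γ m) {k l : ℤ}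
    (h : k = l + m) (hα : α ∈ Zk X δ k) :
    ∃ hβ : β ∈ Zk X δ l, c1It hX hL m h (ChowOps.cl α hα) = ChowOps.cl β hβ := by
  obtain ⟨β', e, h'⟩ := exists_c1It_cl hX hL ht hγ0 hγs m
  obtain rfl : β = β' := DFunLike.coe_injective (hβ.trans e.symm)
  exact h' h hα

/-- Iterated cap functions with given sections. -/
noncomputable def itFun (δ : X → ℤ) (L : X.Modules) (t : ℕ → (ξ : X) → secFibre L ξ) (γ : X → ℤ) :
    ℕ → X → ℤ
  | 0 => γ
  | i + 1 => c1CapFun δ L (itFun δ L t γ i) (t i)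

theorem eq_itFun {t : ℕ → (ξ : X) → secFibre L ξ} {γ : ℕ → X → ℤ} {α : X → ℤ} (hγ0 : γ 0 = α)
    (hγs : ∀ i : ℕ, γ (i + 1) = c1CapFun δ L (γ i) (t i)) (m : ℕ) : γ m = itFun δ L t α m := by
  induction m with
  | zero => exact hγ0
  | succ m ih => rw [hγs, ih]; rfl

theorem c1It_iso {L' : X.Modules} (hL' : PicF.IsInvertible L') (e : L ≅ L') (m : ℕ) {k l : ℤ}
    (h : k = l + m) (x : ChowOps.CH X δ k) : c1It hX hL m h x = c1It hX hL' m h x := by
  induction m generalizing l with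
  | zero => rfl
  | succ m ih =>
    have h3 : k = (l + 1) + (m : ℤ) := by rw [h]; push_cast; ring
    rw [c1It_succ hX hL h rfl h3, c1It_succ hX hL' h rfl h3, ih, c1CH_iso hX hL hL' e]

/-- Projection formula for iterated caps. -/
theorem c1It_pushCH (f : X ⟶ Y) [IsProper f] (hY : IsSetup Y δY)
    (hf : DeltaCompat f δ δY) {N : Y.Modules} (hN : PicF.IsInvertible N)
    (e : (Scheme.Modules.pullback f).obj N ≅ L) (m : ℕ) {k l : ℤ}
    (h : k = l + m) (x : ChowOps.CH X δ k) :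
    c1It hY hN m h (pushCH f hY hf k x) = pushCH f hY hf l (c1It hX hL m h x) := by
  induction m generalizing l with
  | zero =>
    have e : k = l := by simpa using h
    subst e
    rfl
  | succ m ih =>
    have h3 : k = (l + 1) + (m : ℤ) := by rw [h]; push_cast; ring
    rw [c1It_succ hX hL h rfl h3, c1It_succ hY hN h rfl h3, ih,
      c1CH_pushCH f hX hY hf hN hL e]

/-- Iterated caps commute with flat pullback. -/
theorem c1It_pullCH (f : X ⟶ Y) [Flat f] (hY : IsSetup Y δY)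
    {c : ℤ} (hf : Shift f δ δY c) {N : Y.Modules} (hN : PicF.IsInvertible N)
    (e : (Scheme.Modules.pullback f).obj N ≅ L) (m : ℕ) {k l k' l' : ℤ}
    (h : k = l + m) (hk : k' = k + c) (hl : l' = l + c) (h' : k' = l' + m)
    (x : ChowOps.CH Y δY k) :
    c1It hX hL m h' (pullCH f hX hY hf hk x) = pullCH f hX hY hf hl (c1It hY hN m h x) := by
  induction m generalizing l l' with
  | zero =>
    have e : k = l := by simpa using h
    subst e
    have e' : k' = l' := by simpa using h'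
    subst e'
    rfl
  | succ m ih =>
    have h3 : k = (l + 1) + (m : ℤ) := by rw [h]; push_cast; ring
    have h4 : k' = (l' + 1) + (m : ℤ) := by rw [h']; push_cast; ring
    rw [c1It_succ hX hL h' rfl h4, c1It_succ hY hN h rfl h3,
      ih h3 (by rw [hl]; ring) h4, c1CH_pullCH f hX hY hf hN hL e]

end K306.ChowIt
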