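import Groth.Agent.Cyc.K306.Hyper
import Groth.Agent.Cyc.K306.PtCyc
import Groth.Agent.S3581
import Groth.Agent.S10829
import Groth.Agent.Dix.ProjProper
import Groth.Agent.IntTh.K711.DeltaGen
import Groth.Agent.CycB.AffRT
import Groth.Agent.CycB.SetupDVR
import Groth.Agent.Lefpen.H717.ProjIrr

/-!
# The Chow groups of projective space over a field
-/

set_option autoImplicit false
universe u
open CategoryTheory AlgebraicGeometry CategoryTheory.Limits Opposite

namespace K306.ChowPn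

open Groth.Agent Groth.Agent.CycB K930.Chow K930.PushPull K930.OKs K930.Gysin Cyc FinRat
open Groth.Agent.CycB.C1Pull Groth.Agent.CycB.GysinCl
open K306.ChowIt K306.PtCyc K306.Hyper
open Groth.Agent.Sga5.ProjHyper

variable {K : Type u} [Field K] {d : ℤ}

instance (n : ℕ) : IsProper (CohB1.ProjSpace.toSpec n K) := Dix.ProjProper.isProper_toSpec n K

/-- The spectrum of a field with a constant dimension function. -/
theorem isSetup_field (K : Type u) [Field K] (d : ℤ) :
    IsSetup (Spec (CommRingCat.of K)) (fun _ => d) := by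
  refine ⟨(SetupDVR.isSetup_spec_field K).1, (SetupDVR.isSetup_spec_field K).2.1, ?_⟩
  intro x y _ hne
  exact (hne (Subsingleton.elim (α := PrimeSpectrum K) x y)).elim

variable {n : ℕ} {δ : CohB1.ProjSpace n K → ℤ}

theorem setup (hδ : DeltaCompat (CohB1.ProjSpace.toSpec n K) δ (fun _ => d)) :
    IsSetup (CohB1.ProjSpace n K) δ :=
  setup_of _ (isSetup_field K d) hδ

theorem delta_generic (hδ : DeltaCompat (CohB1.ProjSpace.toSpec n K) δ (fun _ => d)) :
    δ (genericPoint (CohB1.ProjSpace n K)) = d + n := by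
  have h : DeltaCompat (CohB1.ProjSpace.toSpec n K) (fun x => δ x - d) (fun _ => 0) := by
    intro x
    obtain ⟨m, h1, h2⟩ := hδ x
    refine ⟨m, h1, ?_⟩
    dsimp only at h2 ⊢
    omega
  have := K711.DeltaGen.delta_generic (CohB1.ProjSpace.toSpec n K) h
    (η := genericPoint (CohB1.ProjSpace n K)) (fun x => genericPoint_specializes x)
    (S10829.result K n)
  omega

/-- The fundamental class of projective space. -/
noncomputable def fund (hδ : DeltaCompat (CohB1.ProjSpace.toSpec n K) δ (fun _ => d)) :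
    ChowOps.CH (CohB1.ProjSpace n K) δ (d + n) :=
  ChowOps.cl (ptCyc (genericPoint (CohB1.ProjSpace n K))) (ptCyc_mem (delta_generic hδ))

theorem compat_hyper {m : ℕ} {δ₀ : CohB1.ProjSpace m K → ℤ} {δ₁ : CohB1.ProjSpace (m + 1) K → ℤ}
    (h₀ : DeltaCompat (CohB1.ProjSpace.toSpec m K) δ₀ (fun _ => d))
    (h₁ : DeltaCompat (CohB1.ProjSpace.toSpec (m + 1) K) δ₁ (fun _ => d)) :
    DeltaCompat (hyper m K) δ₀ δ₁ :=
  deltaCompat_of_comp (hyper m K) (CohB1.ProjSpace.toSpec (m + 1) K)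
    (by rw [hyper_toSpec]; exact h₀) h₁

theorem generic_notMem (m : ℕ) : genericPoint (CohB1.ProjSpace (m + 1) K) ∉
    Set.range ⇑(hyper m K) := by
  rw [range_hyper, Set.mem_compl_iff, not_not]
  have h1 : IsOpen (Set.range ⇑(Sga5.ProjSmooth.chart (m + 1) K (Fin.last (m + 1)))) :=
    (Sga5.ProjSmooth.chart (m + 1) K (Fin.last (m + 1))).opensRange.isOpen
  obtain ⟨y⟩ : Nonempty (Spec (CommRingCat.of (MvPolynomial (Fin (m + 1)) K))) :=
    inferInstanceAs (Nonempty (PrimeSpectrum (MvPolynomial (Fin (m + 1)) K)))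
  exact (genericPoint_specializes (Sga5.ProjSmooth.chart (m + 1) K (Fin.last (m + 1)) y)).mem_open
    h1 ⟨y, rfl⟩

/-- `c_1(O(1)) ∩ [P^{m+1}] = i_* [P^m]`. -/
theorem c1CH_fund {m : ℕ} {δ₀ : CohB1.ProjSpace m K → ℤ} {δ₁ : CohB1.ProjSpace (m + 1) K → ℤ}
    (h₀ : DeltaCompat (CohB1.ProjSpace.toSpec m K) δ₀ (fun _ => d))
    (h₁ : DeltaCompat (CohB1.ProjSpace.toSpec (m + 1) K) δ₁ (fun _ => d))
    (h : d + ((m + 1 : ℕ) : ℤ) = d + m + 1) :
    c1CH (setup h₁) (isInvertible_O1 (m + 1) K) h (fund h₁) =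
      pushCH (hyper m K) (setup h₁) (compat_hyper h₀ h₁) (d + m) (fund h₀) :=
  c1CH_generic (setup h₁) (isInvertible_O1 (m + 1) K) _ (hyper m K) (compat_hyper h₀ h₁)
    (isZeroSchemeOf_hyper m K) (generic_notMem m) (delta_generic h₁) (delta_generic h₀) h

/-- `π_* (c_1(O(1))^n ∩ [P^n]) = [pt]`. -/
theorem pushCH_c1It (n : ℕ) : ∀ (δ : CohB1.ProjSpace n K → ℤ)
    (hδ : DeltaCompat (CohB1.ProjSpace.toSpec n K) δ (fun _ => d)),
    pushCH (CohB1.ProjSpace.toSpec n K) (isSetup_field K d) hδ d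
      (c1It (setup hδ) (isInvertible_O1 n K) n rfl (fund hδ)) =
      ChowOps.cl (ptCyc (genericPoint (Spec (CommRingCat.of K)))) (ptCyc_mem rfl) := by
  induction n with
  | zero =>
    intro δ hδ
    have : IsIso (CohB1.ProjSpace.toSpec 0 K) := S3581.result K
    have e1 : c1It (setup hδ) (isInvertible_O1 0 K) 0 rfl (fund hδ) =
      ChowOps.cl (ptCyc (genericPoint (CohB1.ProjSpace 0 K)))
        (ptCyc_mem (by rw [delta_generic hδ]; simp)) := by
      rw [c1It_zero, fund]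
      exact chCast_cl' _ _ _ _
    rw [e1]
    apply pushCH_cl'
    rw [map_ptCyc_imm _ hδ]
    congr 1
    exact Subsingleton.elim (α := PrimeSpectrum K) _ _
  | succ m ih =>
    intro δ₁ h₁
    obtain ⟨δ₀, h₀⟩ := SetupLft.exists_deltaCompat (CohB1.ProjSpace.toSpec m K) (fun _ => d)
    rw [c1It_succ' (setup h₁) _ _ (by push_cast; ring : d + ((m + 1 : ℕ) : ℤ) = d + m + 1) rfl,
      c1CH_fund h₀ h₁, c1It_pushCH (setup h₀) (isInvertible_O1 m K) (hyper m K) (setup h₁)
        (compat_hyper h₀ h₁) (isInvertible_O1 (m + 1) K) (hyperIso m K),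
      pushCH_comp (hyper m K) (CohB1.ProjSpace.toSpec (m + 1) K) (setup h₁) (isSetup_field K d)
        (compat_hyper h₀ h₁) h₁ (by rw [hyper_toSpec]; exact h₀)]
    rw [← ih δ₀ h₀]
    rw [pushCH_congr (hyper_toSpec m K) (isSetup_field K d) (by rw [hyper_toSpec]; exact h₀) h₀]

instance compactSpace_projSpace (n : ℕ) : CompactSpace (CohB1.ProjSpace n K) :=
  QuasiCompact.compactSpace_of_compactSpace (CohB1.ProjSpace.toSpec n K)

/-- Every class of positive codimension on `P^{m+1}` comes from the hyperplane. -/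
theorem exists_pushCH_hyper {m : ℕ} {δ₀ : CohB1.ProjSpace m K → ℤ}
    {δ₁ : CohB1.ProjSpace (m + 1) K → ℤ}
    (h₀ : DeltaCompat (CohB1.ProjSpace.toSpec m K) δ₀ (fun _ => d))
    (h₁ : DeltaCompat (CohB1.ProjSpace.toSpec (m + 1) K) δ₁ (fun _ => d)) {k : ℤ}
    (hk : k ≠ d + ((m + 1 : ℕ) : ℤ)) (x : ChowOps.CH (CohB1.ProjSpace (m + 1) K) δ₁ k) :
    ∃ y, pushCH (hyper m K) (setup h₁) (compat_hyper h₀ h₁) k y = x := by
  obtain ⟨α, hα, rfl⟩ := Bivar.exists_rep x
  have hX := setup h₁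
  have := hX.1
  let e := Sga5.ProjSmooth.chart (m + 1) K (Fin.last (m + 1))
  have hr : Set.range ⇑(hyper m K) = (Set.range ⇑e)ᶜ := range_hyper m K
  have hopen : IsOpen (Set.range ⇑e) := e.opensRange.isOpen
  have hgen : genericPoint (CohB1.ProjSpace (m + 1) K) ∈ Set.range ⇑e := by
    by_contra h
    refine generic_notMem (K := K) m ?_
    rw [hr]
    exact h
  have key : ⇑α ∈ K711.Strata.spanOf δ₁ (Set.range ⇑(hyper m K)) k := by
    refine K711.Strata.mem_of_support_finite (K711.FinRatCpt.finite_support α) fun x hx => ?_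
    have hxk : δ₁ x = k := by
      by_contra h
      exact hx (hα x h)
    refine ⟨hxk, ?_⟩
    by_cases hxr : x ∈ Set.range ⇑(hyper m K)
    · exact K711.Strata.pt_mem_spanOf hxr
    · have hxe : x ∈ Set.range ⇑e := by
        rw [hr, Set.mem_compl_iff, not_not] at hxr
        exact hxr
      obtain ⟨v, rfl⟩ := hxe
      obtain ⟨v₀, hv₀⟩ := hgen
      refine K711.Strata.pt_mem_of_piece hX.2.2 e hopen.isLocallyClosed
        (AffRT.RT_mvPoly_fin K (m + 1)) (v₀ := v₀) ?_ ?_ ?_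
      · rw [← DivNat.specializes_iff e, hv₀]
        exact genericPoint_specializes _
      · rintro rfl
        apply hk
        rw [← hxk, hv₀, delta_generic h₁]
      · rintro x ⟨-, hx⟩
        apply K711.Strata.pt_mem_spanOf
        rw [hr]
        exact hx
  obtain ⟨b, hb1, hb2, hb3⟩ := key
  let β : AlgebraicCycle (CohB1.ProjSpace (m + 1) K) ℤ :=
    ⟨b, by simp, fun z _ => ⟨Set.univ, Filter.univ_mem, by simpa using hb1⟩⟩
  have hβ : β ∈ Zk _ δ₁ k := by
    intro x hx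
    by_contra hne
    exact hx (hb2 x hne).2
  obtain ⟨y, hy⟩ := exists_pushCH_eq (hyper m K) hX (compat_hyper h₀ h₁) hβ (by
    intro x hx
    by_contra hne
    exact hx (hb2 x hne).1)
  refine ⟨y, hy.trans ?_⟩
  symm
  rw [cl_eq_cl]
  exact K711.FinRatCpt.ratEquivZero_of_mem hb3

/-- Every class of codimension `j ≤ n` on `P^n` is an integral multiple of `c_1(O(1))^j ∩ [P^n]`. -/
theorem exists_zsmul (n : ℕ) : ∀ (δ : CohB1.ProjSpace n K → ℤ)
    (hδ : DeltaCompat (CohB1.ProjSpace.toSpec n K) δ (fun _ => d)) (j : ℕ) (_ : j ≤ n) {k : ℤ}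
    (hk : d + n = k + j) (x : ChowOps.CH (CohB1.ProjSpace n K) δ k),
    ∃ a : ℤ, x = a • c1It (setup hδ) (isInvertible_O1 n K) j hk (fund hδ) := by
  induction n with
  | zero =>
    intro δ hδ j hj k hk x
    obtain rfl : j = 0 := by omega
    have hk' : d + ((0 : ℕ) : ℤ) = k := by simpa using hk
    subst hk'
    obtain ⟨α, hα, rfl⟩ := Bivar.exists_rep x
    refine ⟨α (genericPoint (CohB1.ProjSpace 0 K)), ?_⟩
    rw [c1It_zero', fund, ← cl_zsmul]
    exact Bivar.cl_congr (eq_smul_ptCyc (setup hδ).2.2 (delta_generic hδ) hα) _ _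
  | succ m ih =>
    intro δ₁ h₁ j hj k hk x
    cases j with
    | zero =>
      have hk' : d + ((m + 1 : ℕ) : ℤ) = k := by simpa using hk
      subst hk'
      obtain ⟨α, hα, rfl⟩ := Bivar.exists_rep x
      refine ⟨α (genericPoint (CohB1.ProjSpace (m + 1) K)), ?_⟩
      rw [c1It_zero', fund, ← cl_zsmul]
      exact Bivar.cl_congr (eq_smul_ptCyc (setup h₁).2.2 (delta_generic h₁) hα) _ _
    | succ j =>
      obtain ⟨δ₀, h₀⟩ := SetupLft.exists_deltaCompat (CohB1.ProjSpace.toSpec m K) (fun _ => d)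
      have hk0 : k ≠ d + ((m + 1 : ℕ) : ℤ) := by
        push_cast at hk ⊢
        omega
      obtain ⟨y, rfl⟩ := exists_pushCH_hyper h₀ h₁ hk0 x
      have hk1 : d + (m : ℤ) = k + j := by
        push_cast at hk ⊢
        omega
      obtain ⟨a, rfl⟩ := ih δ₀ h₀ j (by omega) hk1 y
      refine ⟨a, ?_⟩
      rw [map_zsmul, c1It_succ' (setup h₁) _ hk
        (by push_cast; ring : d + ((m + 1 : ℕ) : ℤ) = d + m + 1) hk1,
        c1CH_fund h₀ h₁, c1It_pushCH (setup h₀) (isInvertible_O1 m K) (hyper m K) (setup h₁)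
        (compat_hyper h₀ h₁) (isInvertible_O1 (m + 1) K) (hyperIso m K)]

end K306.ChowPn
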