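import Groth.Prelude.Def_Cyc
import Mathlib.Topology.KrullDimension
import Mathlib.Topology.Sober

/-!
# Krull dimension of closed subsets and nonnegative dimension functions
-/

set_option autoImplicit false
universe u
open CategoryTheory AlgebraicGeometry TopologicalSpace

namespace K306.DimDelta

theorem dim_lt {X : Scheme.{u}} {δ : X → ℤ} (hd : Cyc.IsDimFun X δ) (h0 : ∀ x, 0 ≤ δ x) {S : Set X}
    (hS : IsClosed S) {r : ℕ} (h : ∀ x ∈ S, δ x ≤ (r : ℤ) - 1) : topologicalKrullDim S < r := by
  have hq : QuasiSober S := hS.isClosedEmbedding_subtypeVal.quasiSober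
  let g : IrreducibleCloseds S → S := fun Z => Z.isIrreducible.genericPoint
  have hg : ∀ Z : IrreducibleCloseds S, closure {g Z} = (Z : Set S) := fun Z => by
    have := Z.isIrreducible.isGenericPoint_genericPoint_closure
    rw [Z.isClosed.closure_eq] at this
    exact this
  let f : IrreducibleCloseds S → ℕ := fun Z => (δ (g Z).1).toNat
  have hf : StrictMono f := by
    intro Z W hZW
    have h1 : g W ⤳ g Z := by
      rw [specializes_iff_mem_closure, hg]
      apply hZW.le
      change g Z ∈ (Z : Set S)
      rw [← hg Z]
      exact subset_closure rfl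
    have h2 : (g W).1 ⤳ (g Z).1 := h1.map continuous_subtype_val
    have h3 : (g W).1 ≠ (g Z).1 := by
      intro e
      have e' : g W = g Z := Subtype.ext e
      apply hZW.ne
      apply SetLike.coe_injective
      rw [← hg Z, ← hg W, e']
    have h4 := (hd _ _ h2 h3).1
    have h5 := h0 (g Z).1
    have h6 := h0 (g W).1
    change (δ (g Z).1).toNat < (δ (g W).1).toNat
    omega
  have hlen : ∀ p : LTSeries (IrreducibleCloseds S), p.length < r := by
    intro p
    have h1 := (p.map f hf).head_add_length_le_nat
    have h2 : (p.map f hf).last = f p.last := rfl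
    have h3 : (p.map f hf).length = p.length := rfl
    rw [h2, h3] at h1
    have h4 := h (g p.last).1 (g p.last).2
    have h5 := h0 (g p.last).1
    have h6 : f p.last = (δ (g p.last).1).toNat := rfl
    omega
  cases r with
  | zero =>
    have : IsEmpty (IrreducibleCloseds S) := ⟨fun Z => by
      have := hlen (RelSeries.singleton _ Z)
      omega⟩
    unfold topologicalKrullDim
    rw [Order.krullDim_eq_bot]
    exact WithBot.bot_lt_coe _
  | succ m =>
    have h1 : topologicalKrullDim S ≤ m := by
      refine iSup_le fun p => ?_
      have := hlen p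
      exact_mod_cast (show p.length ≤ m by omega)
    exact h1.trans_lt (by exact_mod_cast Nat.lt_succ_self m)

end K306.DimDelta
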