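import Groth.Agent.IntTh.K711.CycFun
import Groth.Agent.CycB.DegSky
import Groth.Agent.CycB.PushRat
import Groth.Agent.CycB.DegReduce2
import Groth.Agent.Cyc.K306.DimDelta
import Groth.Prelude.Def_ChowOps

/-!
# Degrees of zero-cycles and Euler characteristics
-/

set_option autoImplicit false
universe u
open CategoryTheory CategoryTheory.Limits AlgebraicGeometry

namespace K306.DegZero

open Groth.Agent Groth.Agent.CycB Groth.Agent.CycB.CycleSheaf Cyc

variable (k : Type u) [Field k] {X : Scheme.{u}} [X.Over (Spec (CommRingCat.of k))]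
  {δ : X → ℤ}

theorem delta_nonneg (hδ : DeltaCompat (X ↘ Spec (CommRingCat.of k)) δ (fun _ => 0)) (x : X) : 0 ≤ δ x := by
  obtain ⟨n, -, h⟩ := hδ x
  dsimp only at h
  omega

theorem isClosed_singleton (hX : IsSetup X δ) (hδ : DeltaCompat (X ↘ Spec (CommRingCat.of k)) δ (fun _ => 0))
    {x : X} (hx : δ x = 0) : IsClosed ({x} : Set X) := by
  rw [← closure_eq_iff_isClosed]
  refine Set.Subset.antisymm (fun y hy => ?_) subset_closure
  have h1 : x ⤳ y := specializes_iff_mem_closure.2 hy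
  by_contra h
  have h2 := (hX.2.2 x y h1 (fun e => h e.symm)).1
  have h3 := delta_nonneg k hδ y
  omega

variable [IsProper (X ↘ Spec (CommRingCat.of k))]

theorem deg_eq (hX : IsSetup X δ) (hδ : DeltaCompat (X ↘ Spec (CommRingCat.of k)) δ (fun _ => 0))
    {α : AlgebraicCycle X ℤ} (hα : α ∈ Zk X δ 0) {Z : Set X} (hZ : Z.Finite) (hZ' : ∀ x, α x ≠ 0 → x ∈ Z) :
    ChowOps.deg (X ↘ Spec (CommRingCat.of k)) δ α =
      ∑ x ∈ hZ.toFinset, ((X ↘ Spec (CommRingCat.of k)).residueDegree x : ℤ) * α x := by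
  refine (Push.map_apply (X ↘ Spec (CommRingCat.of k)) δ (fun _ => (0 : ℤ)) α (IsLocalRing.closedPoint k)).trans ?_
  have h1 : ∀ x : X, (X ↘ Spec (CommRingCat.of k)) x = IsLocalRing.closedPoint k := fun x =>
    Subsingleton.elim (α := PrimeSpectrum k) _ _
  rw [finsum_mem_eq_sum_of_inter_support_eq (t := hZ.toFinset)]
  · refine Finset.sum_congr rfl fun x hx => ?_
    by_cases h : α x = 0
    · rw [h, zero_mul, mul_zero]
    · have h2 : δ x = 0 := by
        by_contra hc
        exact h (hα x hc)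
      unfold AlgebraicCycle.mapCoeff
      rw [if_pos h2, mul_comm]
  · ext x
    simp only [Set.mem_inter_iff, Function.mem_support, Set.Finite.coe_toFinset]
    constructor
    · rintro ⟨-, h2⟩
      exact ⟨hZ' x (left_ne_zero_of_mul h2), h2⟩
    · rintro ⟨-, h2⟩
      exact ⟨h1 x, h2⟩

theorem finite_support (hX : IsSetup X δ) (hδ : DeltaCompat (X ↘ Spec (CommRingCat.of k)) δ (fun _ => 0))
    {F : X.Modules} (hF : CohLe δ 0 F) : {x : X | Nontrivial (F.presheaf.stalk x)}.Finite := by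
  have := hX.1
  have : CompactSpace X := (quasiCompact_iff_compactSpace (X ↘ (Spec (CommRingCat.of k)))).mp inferInstance
  choose U hU hfin using GenPts.exists_finite_genPts hX hF.1 hF.2
  obtain ⟨t, ht⟩ := isCompact_univ.elim_finite_subcover (fun x : X => (U x : Set X)) (fun x => (U x).2)
    (fun x _ => Set.mem_iUnion.2 ⟨x, hU x⟩)
  refine (t.finite_toSet.biUnion (fun x _ => hfin x)).subset ?_
  intro y hy
  obtain ⟨x, hx, hyx⟩ := Set.mem_iUnion₂.1 (ht (Set.mem_univ y))
  have h1 := hF.2 y hy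
  have h2 := delta_nonneg k hδ y
  exact Set.mem_biUnion hx ⟨hyx, by omega, hy⟩

theorem euler_eq (hX : IsSetup X δ) (hδ : DeltaCompat (X ↘ Spec (CommRingCat.of k)) δ (fun _ => 0))
    {F : X.Modules} (hF : CohLe δ 0 F) {α : AlgebraicCycle X ℤ} (hα : ⇑α = sheafFun δ 0 F) :
    ChowOps.deg (X ↘ Spec (CommRingCat.of k)) δ α = Curv2.euler k X F := by
  have hfin := finite_support k hX hδ hF
  have hα0 : α ∈ Zk X δ 0 := fun x hx => by
    rw [show α x = (⇑α) x from rfl, hα]
    exact sheafFun_of_ne F hx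
  have hz : ∀ x, Nontrivial (F.presheaf.stalk x) → δ x = 0 := fun x hx => by
    have h1 := hF.2 x hx
    have h2 := delta_nonneg k hδ x
    omega
  rw [deg_eq k hX hδ hα0 hfin (fun x hx => ?_), DegSky.euler_eq_sum k X F hF.1 hfin
    (fun x hx => isClosed_singleton k hX hδ (hz x hx)) (fun x hx => not_nontrivial_iff_subsingleton.1 hx)
    (fun x hx => PushLen.residueFieldMap_finite _ δ (fun _ => 0) hδ x (hz x hx))]
  · refine Finset.sum_congr rfl fun x hx => ?_
    rw [hα]
    unfold sheafFun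
    rw [if_pos (hz x (hfin.mem_toFinset.1 hx))]
  · change Nontrivial _
    by_contra h
    apply hx
    rw [hα]
    exact sheafFun_eq_zero_of_subsingleton F x (not_nontrivial_iff_subsingleton.1 h)

/-- The number attached to a zero-cycle by the Euler characteristic is the degree. -/
theorem num_eq_deg (hX : IsSetup X δ) (hδ : DeltaCompat (X ↘ Spec (CommRingCat.of k)) δ (fun _ => 0))
    {φ : X.Modules → ℤ} (hφ : ∀ F, CohLe δ 0 F → φ F = Curv2.euler k X F) {α : AlgebraicCycle X ℤ}
    (hα : α ∈ Zk X δ 0) : K711.CycFun.num φ α = ChowOps.deg (X ↘ Spec (CommRingCat.of k)) δ α := by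
  have := hX.1
  have c1 := K711.CycFun.cohLe_pos hX hα
  have c2 := K711.CycFun.cohLe_neg hX hα
  have key : ∀ F : X.Modules, CohLe δ 0 F → ∃ β : AlgebraicCycle X ℤ, ⇑β = sheafFun δ 0 F := by
    intro F hF
    refine DivFun.exists_locallyFinsupp _ fun x => ⟨Set.univ, isOpen_univ, trivial, ?_⟩
    refine (finite_support k hX hδ hF).subset ?_
    rintro y ⟨-, hy⟩
    change Nontrivial _
    by_contra h
    exact hy (sheafFun_eq_zero_of_subsingleton F y (not_nontrivial_iff_subsingleton.1 h))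
  obtain ⟨β, hβ⟩ := key _ c1
  obtain ⟨β', hβ'⟩ := key _ c2
  have e : α = β - β' := by
    apply DFunLike.coe_injective
    rw [← sheafFun_pos_sub_neg hX α hα, ← hβ, ← hβ']
    rfl
  unfold K711.CycFun.num
  rw [hφ _ c1, hφ _ c2, ← euler_eq k hX hδ c1 hβ, ← euler_eq k hX hδ c2 hβ']
  conv_rhs => rw [e]
  have h := PushRat.map_sub δ (fun _ => (0 : ℤ)) (X ↘ Spec (CommRingCat.of k)) β β'
  exact (congrArg (fun c : AlgebraicCycle (Spec (CommRingCat.of k)) ℤ => c (IsLocalRing.closedPoint k)) h).symm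

end K306.DegZero
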