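import Groth.Agent.CycB.Push
import Groth.Agent.CycB.PushRat
import Groth.Agent.CycB.PushLocal
import Groth.Agent.CycB.CurveDeg
import Groth.Agent.CycB.RelDim3
import Groth.Agent.CycB.DivFun
import Groth.Agent.Bivar.K930.PushPull
import Groth.Prelude.Def_W4stkchowintpicEnv

/-!
# Lifting cycles along completely decomposed morphisms

* `exists_lift_cycle`: cycles lift along `h : Z ⟶ Y` with a pointwise section with trivial residue extensions;
* `exists_lift_rat`: rational equivalences lift;
* `exists_point`: points of `Y ×_X Y` over `(y, y₀)` with residue field `κ(y)` when `κ(y₀) = κ(x)`.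
-/

set_option autoImplicit false
universe u
open CategoryTheory AlgebraicGeometry CategoryTheory.Limits

namespace K306.Envelope

open Groth.Agent Groth.Agent.CycB Cyc

variable {X Y Z : Scheme.{u}} {δ : X → ℤ} {δY : Y → ℤ} {δZ : Z → ℤ}

theorem delta_eq (f : Y ⟶ X) {y : Y} (hs : Function.Surjective (f.residueFieldMap y).hom)
    (hδ : DeltaCompat f δY δ) : δY y = δ (f y) := by
  obtain ⟨n, hn, hn'⟩ := hδ y
  have h1 : (n : Cardinal.{u}) = 0 := hn.symm.trans (RelDim.rtd_eq_zero_of_surjective f y hs)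
  have h2 : n = 0 := by exact_mod_cast h1
  rw [hn', h2]
  simp

theorem mapCoeff_eq_one (f : Y ⟶ X) {y : Y} (hs : Function.Surjective (f.residueFieldMap y).hom)
    (hδ : DeltaCompat f δY δ) : AlgebraicCycle.mapCoeff f δY δ y = 1 := by
  unfold AlgebraicCycle.mapCoeff
  rw [if_pos (delta_eq f hs hδ), P1Deg.residueDegree_eq_one_of_surjective f y hs]

/-- Lifting cycles along a pointwise section with trivial residue extensions. -/
theorem exists_lift_cycle (h : Z ⟶ Y) [QuasiCompact h] (s : Y → Z) (hs : ∀ y, h (s y) = y)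
    (hsurj : ∀ y, Function.Surjective (h.residueFieldMap (s y)).hom) (hδ : DeltaCompat h δZ δY)
    (β : AlgebraicCycle Y ℤ) : ∃ γ : AlgebraicCycle Z ℤ, (∀ z, γ z ≠ 0 → z = s (h z)) ∧
      (∀ k, β ∈ Zk Y δY k → γ ∈ Zk Z δZ k) ∧ AlgebraicCycle.map h δZ δY γ = β := by
  classical
  have hδy : ∀ y, δZ (s y) = δY y := fun y => by rw [delta_eq h (hsurj y) hδ, hs]
  let b : Z → ℤ := fun z => if z = s (h z) then β (h z) else 0
  obtain ⟨γ, hγ⟩ : ∃ γ : AlgebraicCycle Z ℤ, ⇑γ = b := by
    refine DivFun.exists_locallyFinsupp b fun z => ?_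
    obtain ⟨U, hU, hzU, hfin⟩ := (DivFun.exists_locallyFinsupp_iff (⇑β)).1 ⟨β, rfl⟩ (h z)
    refine ⟨h ⁻¹' U, hU.preimage h.continuous, hzU, ?_⟩
    refine Set.Finite.of_finite_image (f := h) (hfin.subset ?_) ?_
    · rintro _ ⟨w, ⟨hw1, hw2⟩, rfl⟩
      refine ⟨hw1, ?_⟩
      rw [Function.mem_support] at hw2 ⊢
      intro h0
      apply hw2
      simp only [b, h0, ite_self]
    · rintro w ⟨-, hw⟩ w' ⟨-, hw'⟩ hww
      have h1 : w = s (h w) := by
        by_contra hc
        exact hw (if_neg hc)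
      have h2 : w' = s (h w') := by
        by_contra hc
        exact hw' (if_neg hc)
      rw [h1, h2]
      exact congrArg s hww
  have hsupp : ∀ z, γ z ≠ 0 → z = s (h z) := by
    intro z hz
    by_contra hc
    exact hz (by rw [hγ]; exact if_neg hc)
  refine ⟨γ, hsupp, ?_, ?_⟩
  · intro k hβ z hz
    by_contra hc
    have h1 := hsupp z hc
    apply hc
    rw [hγ]
    simp only [b]
    rw [if_pos h1]
    refine hβ (h z) fun h' => hz ?_
    rw [h1, hδy, h']
  · ext y
    rw [Push.map_apply, finsum_eq_single _ (s y)]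
    · have h1 : s y ∈ {z : Z | h z = y} := hs y
      rw [finsum_eq_if, if_pos h1, hγ, mapCoeff_eq_one h (hsurj y) hδ]
      simp only [b]
      rw [if_pos (by rw [hs]), hs]
      simp
    · intro z hz
      rw [finsum_eq_if]
      split_ifs with hzy
      · have h1 : γ z = 0 := by
          by_contra hc
          exact hz (by rw [← show h z = y from hzy]; exact hsupp z hc)
        rw [h1, zero_mul]
      · rfl

/-- Lifting rational equivalences along a completely decomposed proper morphism. -/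
theorem exists_lift_rat (hX : IsSetup X δ) (hY : IsSetup Y δY) (f : Y ⟶ X) [IsProper f]
    (hcd : IsCompletelyDecomposed f) (hδ : DeltaCompat f δY δ) {k : ℤ} {α : AlgebraicCycle X ℤ}
    (h0 : RatEquivZero δ k α) :
    ∃ τ : AlgebraicCycle Y ℤ, RatEquivZero δY k τ ∧ AlgebraicCycle.map f δY δ τ = α := by
  have := hX.1
  have := hY.1
  rw [DivFun.ratEquivZero_iff] at h0
  obtain ⟨ι, ξ, g, h1, h2, h3, h4⟩ := h0
  have key : ∀ i, ∃ (w : Y) (g' : Y.residueField w), f w = ξ i ∧ g' ≠ 0 ∧ δY w = δ (f w) ∧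
      divFun δ (f w) (normGen f w g') = divFun δ (ξ i) (g i) := by
    intro i
    obtain ⟨y, hy, hs⟩ := hcd (ξ i)
    refine ⟨y, (f.residueFieldMap y).hom ((X.residueFieldCongr hy.symm).hom.hom (g i)), hy, ?_,
      delta_eq f hs hδ, ?_⟩
    · have hi : Function.Injective (f.residueFieldMap y).hom := (f.residueFieldMap y).hom.injective
      rw [Ne, map_eq_zero_iff _ hi, map_eq_zero_iff _ (RingHom.injective _)]
      exact h2 i
    · rw [CurveDeg.normGen_of_bijective f y hs]
      exact (CurveDeg.divFun_congr_pt δ hy.symm (g i)).symm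
  choose w g' hw hg' hδw hdiv using key
  have hloc : DivFun.LocFin w := by
    intro y
    obtain ⟨U, hU, hyU, hfin⟩ := h3 (f y)
    refine ⟨f ⁻¹' U, hU.preimage f.continuous, hyU, hfin.subset fun i hi => ?_⟩
    have : f (w i) ∈ U := hi
    rw [hw] at this
    exact this
  obtain ⟨τ, hτ⟩ := DivFun.exists_cycle_sum_divFun hY.2.2 hloc g'
  refine ⟨τ, DivFun.ratEquivZero_of w g' (fun i => ?_) hg' hloc _ hτ, ?_⟩
  · rw [hδw, hw, h1]
  · ext x
    rw [PushRat.map_finsum_divFun δ hY.2.2 f hloc g' τ hτ x, h4 x]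
    refine finsum_congr fun i => ?_
    rw [PushLocal.finsum_divFun_of_eq hY.2.2 hX.2.2 f hδ (w i) (g' i) (hg' i) (hδw i) x, hdiv]

theorem surjective_of_comp {W : Scheme.{u}} (a : W ⟶ Z) (g : Z ⟶ Y) (w : W) (h : SurjectiveOnStalks (a ≫ g)) :
    Function.Surjective (g.residueFieldMap (a w)).hom := by
  intro v
  have h1 := RelDim.residueFieldMap_surjective_of_stalkMap (a ≫ g) w (h.stalkMap_surjective w)
  obtain ⟨r, hr⟩ := h1 ((a.residueFieldMap w).hom v)
  refine ⟨r, (a.residueFieldMap w).hom.injective ?_⟩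
  rw [← hr, Scheme.residueFieldMap_comp]
  rfl

/-- Points of `Y ×_X Y` over `(y, y₀)` with residue field `κ(y)`. -/
theorem exists_point (f : Y ⟶ X) (y y₀ : Y) (h : f y₀ = f y)
    (hs : Function.Surjective (f.residueFieldMap y₀).hom) :
    ∃ z : ↥(pullback f f), pullback.fst f f z = y ∧ pullback.snd f f z = y₀ ∧
      Function.Surjective ((pullback.fst f f).residueFieldMap z).hom := by
  have hb : Function.Bijective (f.residueFieldMap y₀).hom := ⟨RingHom.injective _, hs⟩
  have hiso : IsIso (f.residueFieldMap y₀) := (ConcreteCategory.isIso_iff_bijective _).2 hb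
  let c : Y.residueField y₀ ⟶ Y.residueField y :=
    inv (f.residueFieldMap y₀) ≫ (X.residueFieldCongr h).hom ≫ f.residueFieldMap y
  have hc : Y.fromSpecResidueField y ≫ f = (Spec.map c ≫ Y.fromSpecResidueField y₀) ≫ f := by
    rw [Category.assoc, ← Scheme.Hom.SpecMap_residueFieldMap_fromSpecResidueField,
      ← Scheme.Hom.SpecMap_residueFieldMap_fromSpecResidueField, ← Spec.map_comp_assoc]
    have : f.residueFieldMap y₀ ≫ c = (X.residueFieldCongr h).hom ≫ f.residueFieldMap y := by
      simp [c]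
    rw [this, Spec.map_comp, Category.assoc, Scheme.residueFieldCongr_fromSpecResidueField]
  let a : Spec (Y.residueField y) ⟶ pullback f f := pullback.lift _ _ hc
  let pt : ↥(Spec (Y.residueField y)) := IsLocalRing.closedPoint (Y.residueField y)
  have ha : a ≫ pullback.fst f f = Y.fromSpecResidueField y := pullback.lift_fst _ _ hc
  have hz : pullback.fst f f (a pt) = y := by
    rw [← Scheme.Hom.comp_apply, ha, Scheme.fromSpecResidueField_apply]
  refine ⟨a pt, hz, ?_, ?_⟩
  · rw [← Scheme.Hom.comp_apply, show a ≫ pullback.snd f f = _ from pullback.lift_snd _ _ hc,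
      Scheme.Hom.comp_apply, Scheme.fromSpecResidueField_apply]
  · refine surjective_of_comp a (pullback.fst f f) pt ?_
    rw [ha]
    infer_instance

theorem map_congr {a b : Z ⟶ X} (e : a = b) [QuasiCompact a] [QuasiCompact b] (γ : AlgebraicCycle Z ℤ) :
    AlgebraicCycle.map a δZ δ γ = AlgebraicCycle.map b δZ δ γ := by
  subst e
  rfl

/-- Cycles pushing forward to zero come from `Y ×_X Y`. -/
theorem exists_of_map_eq_zero (f : Y ⟶ X) [IsProper f] (hcd : IsCompletelyDecomposed f) (hδ : DeltaCompat f δY δ)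
    {δ2 : ↥(pullback f f) → ℤ} (hδ2 : DeltaCompat (pullback.fst f f) δ2 δY) {k : ℤ} {β : AlgebraicCycle Y ℤ}
    (hβ : β ∈ Zk Y δY k) (h0 : AlgebraicCycle.map f δY δ β = 0) :
    ∃ γ : AlgebraicCycle (pullback f f) ℤ, γ ∈ Zk (pullback f f) δ2 k ∧
      AlgebraicCycle.map (pullback.fst f f) δ2 δY γ = β ∧
      AlgebraicCycle.map (pullback.snd f f) δ2 δY γ = 0 := by
  classical
  have hδ2' : DeltaCompat (pullback.snd f f) δ2 δY :=
    K930.PushPull.deltaCompat_of_comm pullback.condition hδ2 hδ hδ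
  choose y hy hsurj using hcd
  choose s hs1 hs2 hs3 using fun v : Y => exists_point f v (y (f v)) (hy (f v)) (hsurj (f v))
  obtain ⟨γ, h1, h2, h3⟩ := exists_lift_cycle (pullback.fst f f) s hs1 hs3 hδ2 β
  refine ⟨γ, h2 k hβ, h3, ?_⟩
  have h4 : AlgebraicCycle.map f δY δ (AlgebraicCycle.map (pullback.snd f f) δ2 δY γ) = 0 := by
    rw [Push.map_map δ2 δY δ _ _ hδ2' hδ, map_congr (pullback.condition (f := f) (g := f)).symm,
      ← Push.map_map δ2 δY δ _ _ hδ2 hδ, h3, h0]
  have h5 : ∀ v, AlgebraicCycle.map (pullback.snd f f) δ2 δY γ v ≠ 0 → v = y (f v) := by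
    intro v hv
    rw [Push.map_apply] at hv
    obtain ⟨z, (hz : pullback.snd f f z = v), hz'⟩ := exists_ne_zero_of_finsum_mem_ne_zero hv
    have h6 := h1 z (left_ne_zero_of_mul hz')
    have h7 : v = y (f (pullback.fst f f z)) := by
      rw [← hz]
      conv_lhs => rw [h6]
      exact hs2 _
    have h8 : f (pullback.fst f f z) = f v := by
      rw [← hz, ← Scheme.Hom.comp_apply, ← Scheme.Hom.comp_apply, pullback.condition]
    rw [h8] at h7
    exact h7
  ext v
  change _ = (0 : ℤ)
  by_contra hv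
  have h9 := h5 v hv
  have h10 := congrArg (fun c : AlgebraicCycle X ℤ => c (f v)) h4
  change AlgebraicCycle.map f δY δ _ (f v) = (0 : ℤ) at h10
  rw [Push.map_apply, finsum_eq_single _ v] at h10
  · rw [finsum_eq_if, if_pos (show v ∈ {x : Y | f x = f v} from rfl), mapCoeff_eq_one f (by rw [h9]; exact hsurj _) hδ] at h10
    simp only [Nat.cast_one, mul_one] at h10
    exact hv h10
  · intro w hw
    rw [finsum_eq_if]
    split_ifs with hwv
    · have : AlgebraicCycle.map (pullback.snd f f) δ2 δY γ w = 0 := by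
        by_contra hc
        apply hw
        rw [h5 w hc, show f w = f v from hwv, ← h9]
      rw [this, zero_mul]
    · rfl

end K306.Envelope
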