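import Groth.Agent.Cyc.K306.Fibre

/-!
# Fibrewise projective bundles: the projective bundle formula for Chow groups

`FibProj p L n`: `p : P ⟶ X` is proper and flat, `L` is invertible, and every fibre of `p` is a
projective space `P^n` over the residue field on which `L` restricts to `O(1)`.
-/

set_option autoImplicit false
universe u
open CategoryTheory AlgebraicGeometry CategoryTheory.Limits Opposite

namespace K306

open K306.Hyper

/-- A proper flat morphism with fibres `P^n` and an invertible module restricting to `O(1)`. -/
structure FibProj {P X : Scheme.{u}} (p : P ⟶ X) (L : P.Modules) (n : ℕ) : Prop where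
  proper : IsProper p
  flat : Flat p
  inv : PicF.IsInvertible L
  fib : ∀ x : X, ∃ e : CohB1.ProjSpace n (X.residueField x) ⟶ P,
    IsPullback e (CohB1.ProjSpace.toSpec n (X.residueField x)) p (X.fromSpecResidueField x) ∧
      Nonempty ((Scheme.Modules.pullback e).obj L ≅ O1 n (X.residueField x))

end K306

namespace K306.FibProj

open Groth.Agent Groth.Agent.CycB K930.Chow K930.PushPull K930.OKs K930.Gysin Cyc FinRat
open Groth.Agent.CycB.C1Pull Groth.Agent.CycB.GysinCl
open K306.ChowIt K306.PtCyc K306.Fibre K306.ChowPn K306.Hyper

variable {P X : Scheme.{u}} {p : P ⟶ X} {L : P.Modules} {n : ℕ} {δP : P → ℤ} {δ : X → ℤ}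

section Fib

variable {x : X} {e : CohB1.ProjSpace n (X.residueField x) ⟶ P}

/-- The restriction of a flat pullback to a fibre. -/
theorem pull_fibre
    (hpb : IsPullback e (CohB1.ProjSpace.toSpec n (X.residueField x)) p (X.fromSpecResidueField x))
    (hδ : DeltaCompat p δP δ) (α : X → ℤ)
    (z : CohB1.ProjSpace n (X.residueField x)) :
    pullFun p δP δ n α (e z) =
      α x * pt (genericPoint (CohB1.ProjSpace n (X.residueField x))) z := by
  have hc := compat hpb hδ
  have hg := delta_generic hc
  have hs := (setup hc).2.2
  rw [FlatLength.pullFun_apply]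
  by_cases hz : z = genericPoint (CohB1.ProjSpace n (X.residueField x))
  · subst hz
    rw [pt_self, mult_eq hpb, length_stalk_generic, apply_eq hpb, if_pos hg]
    rfl
  · rw [pt_of_ne hz, mul_zero, if_neg]
    intro h
    have h1 := (hs _ _ (genericPoint_specializes z) (Ne.symm hz)).1
    dsimp only at h1
    rw [hg] at h1
    rw [apply_eq hpb] at h
    omega

/-- `L` has the expected relative dimension. -/
theorem rtd_generic
    (hpb : IsPullback e (CohB1.ProjSpace.toSpec n (X.residueField x)) p (X.fromSpecResidueField x)) :
    RelDim.rtd p (e (genericPoint (CohB1.ProjSpace n (X.residueField x)))) = n := by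
  obtain ⟨δ₀, h₀⟩ := SetupLft.exists_deltaCompat
    (CohB1.ProjSpace.toSpec n (X.residueField x)) (fun _ => 0)
  have h1 := delta_generic h₀
  obtain ⟨m, h2, h3⟩ := h₀ (genericPoint (CohB1.ProjSpace n (X.residueField x)))
  have h4 : RelDim.rtd (CohB1.ProjSpace.toSpec n (X.residueField x))
    (genericPoint (CohB1.ProjSpace n (X.residueField x))) = m := h2
  rw [rtd_eq hpb] at h4
  rw [h4]
  have : m = n := by
    dsimp only at h3
    omega
  rw [this]

end Fib

theorem hasRelDim (h : FibProj p L n) : HasRelDim p n := by
  have := h.proper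
  rw [RelDim.hasRelDim_iff]
  intro w hw
  obtain ⟨e, hpb, -⟩ := h.fib (p w)
  obtain ⟨z, hz⟩ := (mem_range_iff' hpb w).2 rfl
  have h1 : e (genericPoint (CohB1.ProjSpace n (X.residueField (p w)))) = w := by
    refine hw _ ?_ ?_
    · rw [apply_eq hpb]
    · have h0 := (genericPoint_specializes z).map e.continuous
      rw [hz] at h0
      exact h0
  rw [← h1]
  exact rtd_generic hpb

end K306.FibProj
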