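import Groth.Agent.Cyc.K306.ChowPn

/-!
# Restriction of cycles and caps to a fibre
-/

set_option autoImplicit false
universe u
open CategoryTheory AlgebraicGeometry CategoryTheory.Limits Opposite

namespace K306.Fibre

open Groth.Agent Groth.Agent.CycB K930.Chow K930.PushPull K930.OKs K930.Gysin Cyc FinRat
open Groth.Agent.CycB.C1Pull Groth.Agent.CycB.GysinCl
open K306.ChowIt K306.PtCyc

variable {F P X : Scheme.{u}} {p : P ⟶ X} {δP : P → ℤ} {δ : X → ℤ} {x : X} {e : F ⟶ P}
  {q : F ⟶ Spec (X.residueField x)}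

/-- The comparison of an abstract fibre with the chosen one. -/
noncomputable def fiso (hpb : IsPullback e q p (X.fromSpecResidueField x)) : F ≅ p.fiber x :=
  hpb.isoPullback

theorem fiso_fiberι (hpb : IsPullback e q p (X.fromSpecResidueField x)) :
    (fiso hpb).hom ≫ p.fiberι x = e := hpb.isoPullback_hom_fst

theorem range_eq (hpb : IsPullback e q p (X.fromSpecResidueField x)) :
    Set.range ⇑e = p ⁻¹' {x} := by
  rw [← fiso_fiberι hpb, ← p.range_fiberι x, Scheme.Hom.comp_base, TopCat.coe_comp, Set.range_comp,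
    Set.range_eq_univ.2 (fiso hpb).hom.surjective, Set.image_univ]

theorem mem_range_iff' (hpb : IsPullback e q p (X.fromSpecResidueField x)) (w : P) :
    w ∈ Set.range ⇑e ↔ p w = x := by
  rw [range_eq hpb]; rfl

theorem apply_eq (hpb : IsPullback e q p (X.fromSpecResidueField x)) (z : F) : p (e z) = x :=
  (mem_range_iff' hpb _).1 ⟨z, rfl⟩

theorem isPreimmersion (hpb : IsPullback e q p (X.fromSpecResidueField x)) : IsPreimmersion e :=
  MorphismProperty.of_isPullback (P := @IsPreimmersion) hpb.flip inferInstance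

theorem injective (hpb : IsPullback e q p (X.fromSpecResidueField x)) :
    Function.Injective ⇑e :=
  have := isPreimmersion hpb
  e.isEmbedding.injective

theorem rtd_eq (hpb : IsPullback e q p (X.fromSpecResidueField x)) (z : F) :
    RelDim.rtd q z = RelDim.rtd p (e z) := by
  have := isPreimmersion hpb
  have h1 := RelDim.rtd_comp e p z
  have h2 := RelDim.rtd_comp q (X.fromSpecResidueField x) z
  rw [RelDim.rtd_eq_zero_of_isPreimmersion e, add_zero] at h1
  rw [RelDim.rtd_eq_zero_of_isPreimmersion (X.fromSpecResidueField x), zero_add] at h2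
  rw [← h1, ← h2, hpb.w]

theorem compat (hpb : IsPullback e q p (X.fromSpecResidueField x)) (hδ : DeltaCompat p δP δ) :
    DeltaCompat q (fun z => δP (e z)) (fun _ => δ x) := by
  rw [RelDim.deltaCompat_iff] at *
  intro z
  obtain ⟨n, h1, h2⟩ := hδ (e z)
  refine ⟨n, by rw [rtd_eq hpb, h1], ?_⟩
  rw [h2, apply_eq hpb]

theorem residueDegree_preimmersion {Y Z : Scheme.{u}} (f : Y ⟶ Z) [IsPreimmersion f] (y : Y) :
    f.residueDegree y = 1 := DivNat.residueDegree_eq_one f y

theorem residueDegree_eq (hpb : IsPullback e q p (X.fromSpecResidueField x)) (z : F) :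
    q.residueDegree z = p.residueDegree (e z) := by
  have := isPreimmersion hpb
  have h1 := Push.residueDegree_comp e p z
  have h2 := Push.residueDegree_comp q (X.fromSpecResidueField x) z
  rw [residueDegree_preimmersion e, mul_one] at h1
  rw [residueDegree_preimmersion (X.fromSpecResidueField x), one_mul] at h2
  rw [← h1, ← h2, hpb.w]

theorem mult_eq (hpb : IsPullback e q p (X.fromSpecResidueField x)) (z : F) :
    FlatLength.mult p (e z) = Module.length (F.presheaf.stalk z) (F.presheaf.stalk z) := by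
  have h1 : p.fiberι x ((fiso hpb).hom z) = e z := by
    rw [← Scheme.Hom.comp_apply, fiso_fiberι]
  have h2 := FiberStalk.length_stalk_fiber' p x ((fiso hpb).hom z) (e z) h1
  refine h2.trans ?_
  let ε : ((p.fiber x).presheaf.stalk ((fiso hpb).hom z)) ≃+* (F.presheaf.stalk z) :=
    (asIso ((fiso hpb).hom.stalkMap z)).commRingCatIsoToRingEquiv
  have h3 := FiberStalk.length_quotient_eq (A := (p.fiber x).presheaf.stalk ((fiso hpb).hom z))
    (B := F.presheaf.stalk z) (ε : _ →+* _) ε.surjective ⊥
    ((RingHom.injective_iff_ker_eq_bot _).1 ε.injective)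
  rw [← h3]
  exact (Submodule.quotEquivOfEqBot (⊥ : Submodule _ _) rfl).symm.length_eq

/-- Restriction of the pushforward of a cycle to a point. -/
theorem map_fibre [QuasiCompact p] [QuasiCompact q]
    (hpb : IsPullback e q p (X.fromSpecResidueField x))
    (β : AlgebraicCycle P ℤ) (y : Spec (X.residueField x)) :
    AlgebraicCycle.map p δP δ β x =
      AlgebraicCycle.map q (fun z => δP (e z)) (fun _ => δ x)
        (RatTransport.comapCycle e (injective hpb) β) y := by
  rw [Push.map_apply, Push.map_apply]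
  have h1 : {z : F | q z = y} = Set.univ :=
    Set.eq_univ_of_forall fun z => Subsingleton.elim (α := PrimeSpectrum (X.residueField x)) _ _
  have h2 : {w : P | p w = x} = Set.range ⇑e := (range_eq hpb).symm
  rw [h1, finsum_mem_univ, h2, finsum_mem_range (injective hpb)]
  refine finsum_congr fun z => ?_
  rw [RatTransport.comapCycle_apply]
  congr 2
  unfold AlgebraicCycle.mapCoeff
  rw [residueDegree_eq hpb, apply_eq hpb]

/-- Restriction of caps to a fibre. -/
theorem c1CapFun_fibre (hpb : IsPullback e q p (X.fromSpecResidueField x)) {L : P.Modules}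
    (hL : PicF.IsInvertible L) {γ : P → ℤ} {t : (ξ : P) → secFibre L ξ} (ht : ∀ ξ, t ξ ≠ 0)
    (hγ : ∀ (ξ : P) (z : F), γ ξ ≠ 0 → ξ ⤳ e z → p ξ = x) (z : F) :
    c1CapFun δP L γ t (e z) = c1CapFun (fun z => δP (e z)) ((Scheme.Modules.pullback e).obj L)
      (fun z => γ (e z)) (fun ζ => fib e L ζ (t (e ζ))) z := by
  have := isPreimmersion hpb
  rw [C1Cap.c1CapFun_apply, C1Cap.c1CapFun_apply, GysinCap.finsum_eq_comp ⇑e (injective hpb)
    (fun ξ => γ ξ * secDivFun δP L ξ (t ξ) (e z))]
  · refine finsum_congr fun ζ => ?_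
    rw [secDivFun_fib e hL δP ζ z (ht _)]
  · intro ξ hξ
    by_cases h0 : γ ξ = 0
    · rw [h0, zero_mul]
    · have h1 : ¬ ξ ⤳ e z := fun h => hξ ((mem_range_iff' hpb ξ).2 (hγ ξ z h0 h))
      have h2 : secDivFun δP L ξ (t ξ) (e z) = 0 := by
        unfold secDivFun
        rw [dif_neg fun h => h1 h.1]
      rw [h2, mul_zero]

end K306.Fibre
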