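import Groth.Agent.EGA2.K32.ProjProper
import Groth.Agent.EGA2.K37.ProjBC
import Groth.Agent.CohqB.ProjBC
import Mathlib.RingTheory.TensorProduct.MvPolynomial

/-!
# Graded rings isomorphic to polynomial rings, and base change to a field

For a graded ring `𝒜` over `R` (`ρ : R →+* 𝒜 0`) with degree one elements `t_0, …, t_n` such that
`R[T_0, …, T_n] → A` is bijective:
* `toPoly ρ ht hb φ : 𝒜 →+*ᵍ polyGrading n K`, for `φ : R →+* K`, with `toPoly_t : t_i ↦ T_i`;
* `isPullback_toPoly`: `Proj.map (toPoly ..)` is the base change of `Proj 𝒜 ⟶ Spec R` along `Spec K ⟶ Spec R`.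
-/

set_option autoImplicit false
universe u
open CategoryTheory CategoryTheory.Limits AlgebraicGeometry TopologicalSpace Opposite
open scoped HomogeneousIdeal

noncomputable section

namespace K306.GrPoly

open CohB1 K37 Groth.Agent.EGA2.K32.ProjProper Groth.Agent.CohqB.ProjBC

variable {A σ : Type u} [CommRing A] [SetLike σ A] [AddSubgroupClass σ A] {𝒜 : ℕ → σ} [GradedRing 𝒜]
  {R : Type u} [CommRing R] (ρ : R →+* 𝒜 0) {n : ℕ} {t : Fin (n + 1) → A} (ht : ∀ i, t i ∈ 𝒜 1)
  (hb : Function.Bijective (ev ρ t)) {K : Type u} [CommRing K] (φ : R →+* K)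

theorem ev_X (i : Fin (n + 1)) : ev ρ t (MvPolynomial.X i) = t i := by
  rw [ev, MvPolynomial.coe_eval₂Hom, MvPolynomial.eval₂_X]

theorem ev_C (r : R) : ev ρ t (MvPolynomial.C r) = coef ρ r := by
  rw [ev, MvPolynomial.coe_eval₂Hom, MvPolynomial.eval₂_C]

include ht hb in
theorem mem_of_ev_mem {d : ℕ} {q : MvPolynomial (Fin (n + 1)) R} (h : ev ρ t q ∈ 𝒜 d) :
    q ∈ polyGrading n R d := by
  have h1 : (DirectSum.decompose (polyGrading n R) q d : MvPolynomial (Fin (n + 1)) R) = q := by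
    apply hb.1
    change evGr ρ ht _ = ev ρ t q
    rw [GradedRingHom.map_directSumDecompose]
    exact DirectSum.decompose_of_mem_same _ h
  rw [← h1]
  exact SetLike.coe_mem _

/-- The isomorphism `R[T_0, …, T_n] ≃ A`. -/
def evEquiv : MvPolynomial (Fin (n + 1)) R ≃+* A := RingEquiv.ofBijective (ev ρ t) hb

theorem evEquiv_apply (q : MvPolynomial (Fin (n + 1)) R) : evEquiv ρ hb q = ev ρ t q := rfl

/-- The graded homomorphism `A ≃ R[T] → K[T]`. -/
def toPoly : 𝒜 →+*ᵍ polyGrading n K :=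
  { (MvPolynomial.map φ).comp (evEquiv ρ hb).symm.toRingHom with
    map_mem := fun {d x} hx => by
      refine (gmap φ n).map_mem (i := d) ?_
      apply mem_of_ev_mem ρ ht hb
      change evEquiv ρ hb ((evEquiv ρ hb).symm x) ∈ _
      rwa [RingEquiv.apply_symm_apply] }

theorem toPoly_apply (a : A) : toPoly ρ ht hb φ a = MvPolynomial.map φ ((evEquiv ρ hb).symm a) := rfl

theorem toPoly_t (i : Fin (n + 1)) : toPoly ρ ht hb φ (t i) = MvPolynomial.X i := by
  rw [toPoly_apply]
  have h : (evEquiv ρ hb).symm (t i) = MvPolynomial.X i := by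
    rw [RingEquiv.symm_apply_eq, evEquiv_apply, ev_X]
  rw [h, MvPolynomial.map_X]

theorem toPoly_coef (r : R) : toPoly ρ ht hb φ (coef ρ r) = MvPolynomial.C (φ r) := by
  rw [toPoly_apply]
  have h : (evEquiv ρ hb).symm (coef ρ r) = MvPolynomial.C r := by
    rw [RingEquiv.symm_apply_eq, evEquiv_apply, ev_C]
  rw [h, MvPolynomial.map_C]

theorem irrelevant_le_map :
    (polyGrading n K)₊ ≤ ((𝒜₊).map (toPoly ρ ht hb φ)) := by
  apply (HomogeneousIdeal.irrelevant_le _).mpr
  intro i hi x hx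
  have h1 := mem_span_X_of_pos n hi x hx
  refine (Ideal.span_le.mpr ?_) h1
  rintro _ ⟨j, rfl⟩
  have : (MvPolynomial.X j : MvPolynomial (Fin (n + 1)) K) = toPoly ρ ht hb φ (t j) := (toPoly_t ρ ht hb φ j).symm
  rw [this]
  apply Ideal.mem_map_of_mem
  exact HomogeneousIdeal.mem_irrelevant_of_mem _ one_pos (ht j)

/-- The morphism `P^n_K ⟶ Proj 𝒜`. -/
def projMap : ProjSpace n K ⟶ Proj 𝒜 := Proj.map (toPoly ρ ht hb φ) (irrelevant_le_map ρ ht hb φ)

theorem isPushout :
    IsPushout (CommRingCat.ofHom φ) (CommRingCat.ofHom ((SetLike.GradeZero.subring 𝒜).subtype.comp ρ))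
      (CommRingCat.ofHom ((SetLike.GradeZero.subring (polyGrading n K)).subtype.comp
        (algebraMap K (polyGrading n K 0)))) (CommRingCat.ofHom (toPoly ρ ht hb φ).toRingHom) := by
  let _ : Algebra R K := φ.toAlgebra
  let _ : Algebra (MvPolynomial (Fin (n + 1)) R) (MvPolynomial (Fin (n + 1)) K) := MvPolynomial.algebraMvPolynomial
  have h : IsPushout (CommRingCat.ofHom (algebraMap R K))
      (CommRingCat.ofHom (algebraMap R (MvPolynomial (Fin (n + 1)) R)))
      (CommRingCat.ofHom (algebraMap K (MvPolynomial (Fin (n + 1)) K)))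
      (CommRingCat.ofHom (algebraMap (MvPolynomial (Fin (n + 1)) R) (MvPolynomial (Fin (n + 1)) K))) :=
    CommRingCat.isPushout_iff_isPushout.mpr inferInstance
  refine IsPushout.of_iso h (Iso.refl _) (Iso.refl _) (evEquiv ρ hb).toCommRingCatIso (Iso.refl _) ?_ ?_ ?_ ?_
  · ext r
    rfl
  · ext r
    exact ev_C ρ r
  · ext r
    rfl
  · refine CommRingCat.hom_ext (RingHom.ext fun q => ?_)
    change MvPolynomial.map φ q = toPoly ρ ht hb φ (ev ρ t q)
    rw [toPoly_apply, ← evEquiv_apply ρ hb, RingEquiv.symm_apply_apply]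

theorem isPullback_projMap :
    IsPullback (projMap ρ ht hb φ) (ProjSpace.toSpec n K)
      (Proj.toSpecZero 𝒜 ≫ Spec.map (CommRingCat.ofHom ρ)) (Spec.map (CommRingCat.ofHom φ)) :=
  ProjBC.isPullback_proj_map (toPoly ρ ht hb φ) φ ρ (algebraMap K (polyGrading n K 0))
    (irrelevant_le_map ρ ht hb φ) (isPushout ρ ht hb φ)

end K306.GrPoly
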