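import Groth.Agent.Sga5.ProjHyper
import Groth.Agent.Sga67.TwistPull
import Groth.Agent.Ega2.H18.PnExist
import Groth.Agent.Ega2.VeryAmpleAmple
import Groth.Agent.Lefpen.H705.ChartPoly
import Groth.Agent.CycB.GysinCl

/-!
# The hyperplane at infinity is the zero scheme of the last coordinate
-/

set_option autoImplicit false
universe u
open CategoryTheory AlgebraicGeometry CategoryTheory.Limits Opposite

namespace K306.Hyper

open Groth.Agent Groth.Agent.CycB Cyc
open Groth.Agent.Sga5 Groth.Agent.Sga5.ProjHyper Groth.Agent.VarietyB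
open Groth.Agent.CycB.C1Basic Groth.Agent.CycB.GysinCl
open Groth.Agent.Lefpen.H705.ChartPoly

variable (m : ℕ) (K : Type u) [Field K]

/-- `O(1)` on projective space. -/
noncomputable abbrev O1 (n : ℕ) (K : Type u) [CommRing K] : (CohB1.ProjSpace n K).Modules :=
  Twist.twistProjSpace n K 1

theorem isInvertible_O1 (n : ℕ) (K : Type u) [CommRing K] : PicF.IsInvertible (O1 n K) :=
  Ega2.VeryAmpleAmple.isInvertible_twistProjSpace n K 1

section Coord

variable {n : ℕ} {K}

/-- The function `T_i / T_j` on `D_+(T_j)`. -/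
noncomputable def ratio (j i : Fin (n + 1)) : Γ(CohB1.ProjSpace n K, LefPen.chart n K j) :=
  ProjStd.ratio (Fin (n + 1)) K j i

/-- The generator `T_j` of `O(1)` over `D_+(T_j)`. -/
noncomputable def gen (j : Fin (n + 1)) : Γ(O1 n K, LefPen.chart n K j) :=
  Ega2.VeryAmpleCrit.gen K j

theorem mem_basicOpen_ratio (j i : Fin (n + 1)) (x : CohB1.ProjSpace n K) :
    x ∈ (CohB1.ProjSpace n K).basicOpen (ratio (K := K) j i) ↔
      x ∈ LefPen.chart n K j ∧ x ∈ LefPen.chart n K i := by
  have h1 : (CohB1.ProjSpace n K).basicOpen (ratio (K := K) j i) =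
    LefPen.chart n K j ⊓ LefPen.chart n K i := ProjStd.stdData_basicOpen (Fin (n + 1)) K j i
  rw [h1]
  rfl

/-- Over `D_+(T_j)`, the germ of `T_i` is `T_i / T_j` times the generator `T_j`. -/
theorem germ_coord (i j : Fin (n + 1)) (x : CohB1.ProjSpace n K) (hx : x ∈ LefPen.chart n K j) :
    (O1 n K).presheaf.germ ⊤ x trivial (ProjUP.coord n K i) =
      (CohB1.ProjSpace n K).presheaf.germ (LefPen.chart n K j) x hx (ratio j i) •
        (O1 n K).presheaf.germ (LefPen.chart n K j) x hx (gen j) := by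
  have h := Ega2.H18.PnExist.res_coord (R := K) n i j
  have h1 := congrArg (fun z => (O1 n K).presheaf.germ (LefPen.chart n K j) x hx z) h
  refine Eq.trans ?_ (h1.trans (ModStalk.germ_smul (O1 n K) (LefPen.chart n K j) x hx _ _))
  exact ((O1 n K).presheaf.germ_res_apply (homOfLE le_top) x hx (ProjUP.coord n K i)).symm

theorem isGen_germ (j : Fin (n + 1)) (x : CohB1.ProjSpace n K) (hx : x ∈ LefPen.chart n K j) :
    ModStalk.IsGen (O1 n K) x
      ((O1 n K).presheaf.germ (LefPen.chart n K j) x hx (gen j)) := by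
  have h : ModStalk.IsGenOn (O1 n K) (LefPen.chart n K j) (gen j) :=
    Ega2.VeryAmpleCrit.isGen_gen (R := K) j
  exact h.isGen x hx

theorem exists_chart (x : CohB1.ProjSpace n K) : ∃ j, x ∈ LefPen.chart n K j := by
  obtain ⟨j, hj⟩ := ProjSmooth.exists_mem_chart n K x
  refine ⟨j, ?_⟩
  rw [LefPen.chart, ← ProjSmooth.opensRange_chart]
  exact hj

theorem val_coord_eq_zero_iff (i : Fin (n + 1)) (x : CohB1.ProjSpace n K) :
    val (O1 n K) (ProjUP.coord n K i) x = 0 ↔ x ∉ LefPen.chart n K i := by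
  obtain ⟨j, hx⟩ := exists_chart x
  rw [val_eq, germ_coord i j x hx, map_smul, smul_cl_eq_zero_iff (isGen_germ j x hx)]
  have h2 := mem_basicOpen_ratio j i x
  rw [Scheme.mem_basicOpen _ _ _ hx] at h2
  rw [← not_iff_not, not_not]
  refine Iff.trans ?_ (h2.trans ⟨fun h => h.2, fun h => ⟨hx, h⟩⟩)
  exact IsLocalRing.residue_ne_zero_iff_isUnit _

theorem ratio_eq_polyToChart (j : Fin (n + 1)) (i : Fin n) :
    ratio j (j.succAbove i) = polyToChart (k := K) j (MvPolynomial.X i) := by
  refine congrArg (Proj.awayToSection (CohB1.polyGrading n K) (MvPolynomial.X j)).hom ?_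
  rw [ProjStd.deh, MvPolynomial.eval₂Hom_X', ProjChart.ofPoly, MvPolynomial.eval₂Hom_X']
  rfl

end Coord

theorem ratio_castSucc_last (j : Fin (m + 1)) :
    ratio (K := K) (Fin.castSucc j) (Fin.last (m + 1)) =
      polyToChart (k := K) (Fin.castSucc j) (MvPolynomial.X (Fin.last m)) := by
  rw [← ratio_eq_polyToChart, Fin.succAbove_ne_last_last (Fin.castSucc_lt_last j).ne]

theorem hyper_preimage_chart (j : Fin (m + 1)) :
    (hyper m K) ⁻¹ᵁ (LefPen.chart (m + 1) K (Fin.castSucc j)) = LefPen.chart m K j := by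
  have h := Proj.map_preimage_basicOpen (kill m K)
    (ProjSurj.irrelevant_le_map (degSurj_kill m K)) (MvPolynomial.X (Fin.castSucc j))
  rw [kill_X_castSucc] at h
  exact h

/-- Functions on `D_+(T_j)` of `P^n` are determined by their pullback to affine space. -/
theorem chart_appLE_injective {n : ℕ} (j : Fin (n + 1)) (V : (CohB1.ProjSpace n K).Opens)
    (hV : V = LefPen.chart n K j)
    (h : (⊤ : (Spec (CommRingCat.of (MvPolynomial (Fin n) K))).Opens) ≤
      (ProjSmooth.chart n K j) ⁻¹ᵁ V) :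
    Function.Injective ((ProjSmooth.chart n K j).appLE V ⊤ h).hom := by
  subst hV
  intro x y hxy
  obtain ⟨p, rfl⟩ := (polyToChart_bijective (k := K) j).2 x
  obtain ⟨q, rfl⟩ := (polyToChart_bijective (k := K) j).2 y
  rw [chart_appLE_polyToChart, chart_appLE_polyToChart] at hxy
  have hinj : Function.Injective
      (Scheme.ΓSpecIso (CommRingCat.of (MvPolynomial (Fin n) K))).inv.hom :=
    (ConcreteCategory.bijective_of_isIso
      (Scheme.ΓSpecIso (CommRingCat.of (MvPolynomial (Fin n) K))).inv).1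
  rw [hinj hxy]

/-- The ideal of the hyperplane on `D_+(T_j)`. -/
theorem ker_hyper_app (j : Fin (m + 1)) :
    RingHom.ker ((hyper m K).app (LefPen.chart (m + 1) K (Fin.castSucc j))).hom =
      Ideal.span {ratio (K := K) (Fin.castSucc j) (Fin.last (m + 1))} := by
  have hV := hyper_preimage_chart m K j
  have hle : (⊤ : (Spec (CommRingCat.of (MvPolynomial (Fin m) K))).Opens) ≤
      (ProjSmooth.chart m K j) ⁻¹ᵁ ((hyper m K) ⁻¹ᵁ (LefPen.chart (m + 1) K (Fin.castSucc j))) := by
    rw [hV]
    exact top_le_preimage j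
  have key : ∀ p, ((hyper m K).app (LefPen.chart (m + 1) K (Fin.castSucc j))).hom
      (polyToChart (k := K) (Fin.castSucc j) p) = 0 ↔ killLast m K p = 0 := by
    intro p
    rw [← map_eq_zero_iff _ (chart_appLE_injective K j _ hV hle)]
    have hle2 : (⊤ : (Spec (CommRingCat.of (MvPolynomial (Fin m) K))).Opens) ≤
      (ProjSmooth.chart m K j ≫ hyper m K) ⁻¹ᵁ (LefPen.chart (m + 1) K (Fin.castSucc j)) := hle
    have e1 : ((ProjSmooth.chart m K j).appLE _ ⊤ hle).hom
        (((hyper m K).app (LefPen.chart (m + 1) K (Fin.castSucc j))).hom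
          (polyToChart (k := K) (Fin.castSucc j) p)) =
        ((ProjSmooth.chart m K j ≫ hyper m K).appLE (LefPen.chart (m + 1) K (Fin.castSucc j)) ⊤
          hle2).hom (polyToChart (k := K) (Fin.castSucc j) p) := by
      rw [Scheme.Hom.comp_appLE]
      rfl
    have hle' : (⊤ : (Spec (CommRingCat.of (MvPolynomial (Fin m) K))).Opens) ≤
      (Spec.map (CommRingCat.ofHom (killLast m K)) ≫ ProjSmooth.chart (m + 1) K (Fin.castSucc j)) ⁻¹ᵁ
        (LefPen.chart (m + 1) K (Fin.castSucc j)) := by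
      rw [← chart_hyper]
      exact hle2
    have e2 : ((ProjSmooth.chart m K j ≫ hyper m K).appLE
        (LefPen.chart (m + 1) K (Fin.castSucc j)) ⊤ hle2).hom
          (polyToChart (k := K) (Fin.castSucc j) p) =
        ((Spec.map (CommRingCat.ofHom (killLast m K)) ≫
          ProjSmooth.chart (m + 1) K (Fin.castSucc j)).appLE
            (LefPen.chart (m + 1) K (Fin.castSucc j)) ⊤ hle').hom
          (polyToChart (k := K) (Fin.castSucc j) p) := by
      simp only [chart_hyper]
    have e3 := Scheme.Hom.appLE_comp_appLE (Spec.map (CommRingCat.ofHom (killLast m K)))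
      (ProjSmooth.chart (m + 1) K (Fin.castSucc j)) (LefPen.chart (m + 1) K (Fin.castSucc j)) ⊤ ⊤
      (top_le_preimage _) le_top
    rw [e1, e2, ← e3]
    change ((Spec.map (CommRingCat.ofHom (killLast m K))).appLE ⊤ ⊤ le_top).hom
      (((ProjSmooth.chart (m + 1) K (Fin.castSucc j)).appLE _ ⊤ (top_le_preimage _)).hom
        (polyToChart (k := K) (Fin.castSucc j) p)) = 0 ↔ _
    rw [chart_appLE_polyToChart]
    have e4 : ((Spec.map (CommRingCat.ofHom (killLast m K))).appLE ⊤ ⊤ le_top).hom
        ((Scheme.ΓSpecIso (CommRingCat.of (MvPolynomial (Fin (m + 1)) K))).inv.hom p) =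
        (Scheme.ΓSpecIso (CommRingCat.of (MvPolynomial (Fin m) K))).inv.hom (killLast m K p) := by
      have e5 := Scheme.ΓSpecIso_inv_naturality (CommRingCat.ofHom (killLast m K))
      have e6 := congr($(e5).hom p)
      refine Eq.trans ?_ e6.symm
      simp only [CommRingCat.hom_comp, RingHom.comp_apply]
      rfl
    rw [e4, map_eq_zero_iff _ (ConcreteCategory.bijective_of_isIso
      (Scheme.ΓSpecIso (CommRingCat.of (MvPolynomial (Fin m) K))).inv).1]
  ext x
  obtain ⟨p, rfl⟩ := (polyToChart_bijective (k := K) (Fin.castSucc j)).2 x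
  rw [RingHom.mem_ker, key, ← RingHom.mem_ker, ker_killLast, ratio_castSucc_last,
    Ideal.mem_span_singleton, Ideal.mem_span_singleton]
  constructor
  · rintro ⟨q, rfl⟩
    exact ⟨polyToChart (k := K) (Fin.castSucc j) q, map_mul _ _ _⟩
  · rintro ⟨q, hq⟩
    obtain ⟨q, rfl⟩ := (polyToChart_bijective (k := K) (Fin.castSucc j)).2 q
    rw [← map_mul] at hq
    exact ⟨q, (polyToChart_bijective (k := K) (Fin.castSucc j)).1 hq⟩

/-- The hyperplane at infinity is the zero scheme of the last coordinate. -/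
theorem isZeroSchemeOf_hyper :
    IsZeroSchemeOf (hyper m K) (O1 (m + 1) K) (ProjUP.coord (m + 1) K (Fin.last (m + 1))) := by
  refine ⟨?_, fun d => ?_⟩
  · have h1 := range_hyper m K
    rw [h1]
    ext x
    have h2 := val_coord_eq_zero_iff (K := K) (Fin.last (m + 1)) x
    refine Iff.trans ?_ h2.symm
    rw [LefPen.chart, ← ProjSmooth.opensRange_chart]
    rfl
  · obtain ⟨j, hj⟩ := exists_chart d
    have hx : (hyper m K) d ∈ LefPen.chart (m + 1) K (Fin.castSucc j) := by
      rw [← hyper_preimage_chart] at hj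
      exact hj
    refine ⟨_, _, (isGen_germ (Fin.castSucc j) _ hx).span_eq_top,
      germ_coord (Fin.last (m + 1)) (Fin.castSucc j) _ hx, ?_⟩
    have hU : IsAffineOpen (LefPen.chart (m + 1) K (Fin.castSucc j)) :=
      ProjStd.isAffineOpen_U (Fin (m + 2)) K (Fin.castSucc j)
    rw [Divis.CartierStalk.ker_stalkMap,
      Divis.CartierBasic.stalkIdeal_eq _ ⟨_, hU⟩ hx, Scheme.Hom.ker_apply, ker_hyper_app,
      Ideal.map_span, Set.image_singleton]

/-- `O(1)` restricts to `O(1)` on the hyperplane. -/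
noncomputable def hyperIso :
    (Scheme.Modules.pullback (hyper m K)).obj (O1 (m + 1) K) ≅ O1 m K :=
  @asIso _ _ _ _ (Sga67.TwistPull.cmp (kill m K)
    (ProjSurj.irrelevant_le_map (degSurj_kill m K)) 1)
    (Sga67.TwistPull.isIso_cmp (kill m K) (ProjSurj.irrelevant_le_map (degSurj_kill m K))
      Ega2.VeryAmpleAmple.coveredByOne_poly 1)

end K306.Hyper
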