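import Groth.Agent.Cyc.K306.DegZero
import Groth.Agent.Cyc.K305.C1K0
import Groth.Agent.Bivar.K930.OKs
import Groth.Agent.Fga.MultInt
import Groth.Agent.Fga.IntAdd
import Groth.Agent.S3231
import Groth.Agent.S0020

/-!
# Intersection numbers and degrees of iterated first Chern classes

`main`: on `X` proper over `k` with `dim X ≤ D`, for an `r`-cycle `α` and invertible modules `L_i` with inverses `M_i`,
the number attached to `α` by `F ↦ FGA.intNum k X D M F` is the degree of `c_1(L_r) ∩ … ∩ c_1(L_1) ∩ α`.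
-/

set_option autoImplicit false
universe u
open CategoryTheory CategoryTheory.Limits AlgebraicGeometry

namespace K306.IntNum

open Groth.Agent Groth.Agent.CycB Groth.Agent.CycB.CycleSheaf Cyc K306.DegZero K711.CycFun

theorem exists_sheafFun {X : Scheme.{u}} {δ : X → ℤ} (hX : IsSetup X δ) {m : ℤ} {F : X.Modules}
    (hF : CohLe δ m F) : ∃ β : AlgebraicCycle X ℤ, ⇑β = sheafFun δ m F := by
  have := hX.1
  refine DivFun.exists_locallyFinsupp _ fun x => ?_
  obtain ⟨U, hxU, hfin⟩ := GenPts.exists_finite_genPts hX hF.1 hF.2 x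
  refine ⟨U, U.2, hxU, hfin.subset ?_⟩
  rintro y ⟨hyU, hy⟩
  refine ⟨hyU, ?_, ?_⟩
  · by_contra h
    exact hy (sheafFun_of_ne F h)
  · by_contra h
    exact hy (sheafFun_eq_zero_of_subsingleton F y (not_nontrivial_iff_subsingleton.1 h))

theorem sheafFun_mem {X : Scheme.{u}} {δ : X → ℤ} {m : ℤ} {F : X.Modules} {β : AlgebraicCycle X ℤ}
    (hβ : ⇑β = sheafFun δ m F) : β ∈ Zk X δ m := fun x hx => by
  rw [show β x = (⇑β) x from rfl, hβ]
  exact sheafFun_of_ne F hx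

theorem c1_mem {X : Scheme.{u}} {δ : X → ℤ} {m : ℤ} {L : X.Modules} {s : (ξ : X) → secFibre L ξ} {a : X → ℤ}
    (ha : ∀ x, δ x ≠ m + 1 → a x = 0) {γ : AlgebraicCycle X ℤ} (hγ : ⇑γ = c1CapFun δ L a s) : γ ∈ Zk X δ m := by
  intro x hx
  rw [show γ x = (⇑γ) x from rfl, hγ]
  unfold c1CapFun
  refine finsum_eq_zero_of_forall_eq_zero fun ξ => ?_
  by_cases h0 : a ξ = 0
  · rw [h0, zero_mul]
  · have h1 : δ ξ = m + 1 := by
      by_contra hc
      exact h0 (ha ξ hc)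
    have : secDivFun δ L ξ (s ξ) x = 0 := by
      unfold secDivFun
      rw [dif_neg fun h2 => hx (by have := h2.2; omega)]
    rw [this, mul_zero]

variable (k : Type u) [Field k] (X : Scheme.{u}) [X.Over (Spec (CommRingCat.of k))]
  [IsProper (X ↘ Spec (CommRingCat.of k))] {δ : X → ℤ} (hX : IsSetup X δ)
  (hδ : DeltaCompat (X ↘ Spec (CommRingCat.of k)) δ (fun _ => 0)) {D : ℕ} (hD : topologicalKrullDim X ≤ D)

include hX hδ in
theorem dim_support_lt {r : ℕ} {F : X.Modules} (hF : CohLe δ ((r : ℤ) - 1) F) :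
    topologicalKrullDim (CohB1.support F) < r :=
  DimDelta.dim_lt hX.2.2 (delta_nonneg k hδ) (S0020.result X F hF.1.2) (fun x hx => hF.2 x (not_subsingleton_iff_nontrivial.1 hx))

include hX hδ hD in
theorem isCycFun {r : ℕ} (M : Fin r → X.Modules) (hM : ∀ i, PicF.IsInvertible (M i)) :
    IsCycFun δ r (fun F => FGA.intNum k X D M F) where
  add T hT h1 h2 h3 := Fga.IntAdd.isAdd_intNum k X D hD M hM T hT h1.1 h2.1 h3.1
  van F hF := S3231.result k X D hD M hM F hF.1 (dim_support_lt k X hX hδ hF)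

include hX hδ hD in
theorem step {r : ℕ} (M : Fin r → X.Modules) (hM : ∀ i, PicF.IsInvertible (M i)) {A L : X.Modules}
    (hA : PicF.IsInvertible A) (hL : PicF.IsInvertible L) (e : CohB1.tensorMod A L ≅ Coh.structureModule X)
    {F : X.Modules} (hF : CohLe δ ((r : ℤ) + 1) F) {s : (ξ : X) → secFibre L ξ} (hs : ∀ ξ, s ξ ≠ 0)
    {γ : AlgebraicCycle X ℤ} (hγ : ⇑γ = c1CapFun δ L (sheafFun δ ((r : ℤ) + 1) F) s) :
    FGA.intNum k X D (Fin.cons A M : Fin (r + 1) → X.Modules) F = num (fun F => FGA.intNum k X D M F) γ := by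
  have hγk : γ ∈ Zk X δ r := c1_mem (fun x hx => sheafFun_of_ne F hx) hγ
  rw [Fga.PicMon.intNum_cons]
  obtain ⟨Λ, hΛ⟩ := (isCycFun k X hX hδ hD M hM).exists_lift'
  have hG : CohLe δ ((r : ℤ) + 1) (CohB1.tensorMod F A) := K305.C1K0.cohLe_tensor hA hF
  have hγ' : ⇑γ = c1CapFun δ L (sheafFun δ ((r : ℤ) + 1) (CohB1.tensorMod F A)) s := by
    rw [K305.C1K0.sheafFun_tensor hA]; exact hγ
  have h1 := K305.C1K0.main hX r hL hG s hs γ hγk hγ'
  have c1 := K711.CycFun.cohLe_mono (show (r : ℤ) ≤ r + 1 by omega) (cohLe_pos hX hγk)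
  have c2 := K711.CycFun.cohLe_mono (show (r : ℤ) ≤ r + 1 by omega) (cohLe_neg hX hγk)
  have h2 := congrArg Λ h1
  rw [map_sub, map_sub, hΛ _ (K305.C1K0.cohLe_tensor hL hG), hΛ _ hG, hΛ _ c1, hΛ _ c2] at h2
  have e1 : CohB1.tensorMod (CohB1.tensorMod F A) L ≅ F :=
    (Ega2.Tens.assoc F A L) ≪≫ Ega2.Tens.mapTIso (Iso.refl F) e ≪≫ Ega2.Tens.runit F
  rw [Fga.PicMon.intNum_iso k X D M e1, Fga.PicMon.intNum_iso k X D M (Ega2.Tens.swap F A)] at h2
  exact h2

include hX hδ hD in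
/-- Intersection numbers are degrees of iterated caps. -/
theorem main {r : ℕ} (L M : Fin r → X.Modules) (hL : ∀ i, PicF.IsInvertible (L i))
    (hM : ∀ i, PicF.IsInvertible (M i))
    (e : ∀ i, Nonempty (CohB1.tensorMod (M i) (L i) ≅ Coh.structureModule X))
    (s : (i : Fin r) → (ξ : X) → secFibre (L i) ξ) (hs : ∀ i ξ, s i ξ ≠ 0) (γ : ℕ → X → ℤ)
    {α₀ : AlgebraicCycle X ℤ} (hα₀ : α₀ ∈ Zk X δ r) (hγ0 : γ 0 = ⇑α₀)
    (hγs : ∀ (i : ℕ) (h : i < r), γ (i + 1) = c1CapFun δ (L ⟨i, h⟩) (γ i) (s ⟨i, h⟩))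
    {α : AlgebraicCycle X ℤ} (hα : ⇑α = γ r) :
    num (fun F => FGA.intNum k X D M F) α₀ = ChowOps.deg (X ↘ Spec (CommRingCat.of k)) δ α := by
  induction r generalizing γ α₀ with
  | zero =>
    have h1 : α = α₀ := DFunLike.coe_injective (by rw [hα, hγ0])
    rw [h1]
    refine num_eq_deg k hX hδ (fun F _ => ?_) (by simpa using hα₀)
    rw [Fga.PicMon.intNum_zero, Fga.IntAdd.eulerCharLE_eq k X D hD]
  | succ r ih =>
    have hk : ((r + 1 : ℕ) : ℤ) = (r : ℤ) + 1 := by push_cast; ring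
    rw [hk] at hα₀
    have c1 := cohLe_pos hX hα₀
    have c2 := cohLe_neg hX hα₀
    obtain ⟨β, hβ⟩ := exists_sheafFun hX c1
    obtain ⟨β', hβ'⟩ := exists_sheafFun hX c2
    have eα : α₀ = β - β' := by
      apply DFunLike.coe_injective
      rw [← sheafFun_pos_sub_neg hX α₀ hα₀, ← hβ, ← hβ']
      rfl
    obtain ⟨η, hη⟩ := K930.OKs.exists_c1 hX (hL 0) β (hs 0)
    obtain ⟨η', hη'⟩ := K930.OKs.exists_c1 hX (hL 0) β' (hs 0)
    have m1 : η ∈ Zk X δ r := c1_mem (fun x hx => sheafFun_mem hβ x hx) hη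
    have m2 : η' ∈ Zk X δ r := c1_mem (fun x hx => sheafFun_mem hβ' x hx) hη'
    have hM' : ∀ i : Fin r, PicF.IsInvertible (M i.succ) := fun i => hM i.succ
    have hcons : M = (Fin.cons (M 0) (fun i => M i.succ) : Fin (r + 1) → X.Modules) :=
      (Fin.cons_self_tail M).symm
    have s1 := step k X hX hδ hD (fun i => M i.succ) hM' (hM 0) (hL 0) (e 0).some c1 (hs 0)
      (γ := η) (by rw [hη, hβ])
    have s2 := step k X hX hδ hD (fun i => M i.succ) hM' (hM 0) (hL 0) (e 0).some c2 (hs 0)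
      (γ := η') (by rw [hη', hβ'])
    have hcyc := isCycFun k X hX hδ hD (fun i => M i.succ) hM'
    have h1 : num (fun F => FGA.intNum k X D M F) α₀ =
        num (fun F => FGA.intNum k X D (fun i => M i.succ) F) (η - η') := by
      rw [num_sub hX hcyc m1 m2, ← s1, ← s2, ← hcons]
      rfl
    rw [h1]
    refine ih (fun i => L i.succ) (fun i => M i.succ) (fun i => hL i.succ) hM' (fun i => e i.succ)
      (fun i => s i.succ) (fun i => hs i.succ) (fun i => γ (i + 1)) (zk_sub m1 m2) ?_ ?_ hα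
    · rw [hγs 0 (by omega), hγ0, eα]
      have h2 := C1Cap.c1CapFun_sub (δ := δ) (L := L 0) β β' (s 0)
      refine (Eq.trans ?_ h2).trans ?_
      · rfl
      · rw [← hη, ← hη']; rfl
    · intro i hi
      exact hγs (i + 1) (by omega)

end K306.IntNum
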