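import Groth.Agent.Cyc.K307.LimDesc

/-!
# Surjectivity of `colim Z_k(X_i) → Z_k(X')`
-/

set_option autoImplicit false
universe u

open AlgebraicGeometry CategoryTheory CategoryTheory.Limits TopologicalSpace
open Groth.Agent.CycB.FlatDiv Groth.Agent.CycB.DivFun K307.LimDesc

namespace K306.LimSurj

variable {J : Type u} [SmallCategory J] [IsCofiltered J] (D : J ⥤ Scheme.{u}) (c : Cone D) (hc : IsLimit c)
  [∀ {i j : J} (f : i ⟶ j), IsAffineHom (D.map f)] [∀ i, CompactSpace (D.obj i)]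

include hc in
theorem exists_cycle (δ : (i : J) → D.obj i → ℤ) (δ' : c.pt → ℤ) (hset' : Cyc.IsSetup c.pt δ')
    (hshift' : ∀ (i : J) (x : c.pt), FibGen (c.π.app i) x → δ' x = δ i (c.π.app i x)) {k : ℤ}
    (α' : AlgebraicCycle c.pt ℤ) (hα' : α' ∈ Cyc.Zk c.pt δ' k) :
    ∃ (i : J) (α : AlgebraicCycle (D.obj i) ℤ), α ∈ Cyc.Zk (D.obj i) (δ i) k ∧
      Cyc.pullFun (c.π.app i) δ' (δ i) 0 ⇑α = ⇑α' := by
  classical
  have := hset'.1
  obtain ⟨i⟩ := IsCofiltered.nonempty (C := J)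
  have hcpt : CompactSpace c.pt := Scheme.compactSpace_of_isLimit D c hc
  have hfin : (Function.support ⇑α').Finite := by
    have := Groth.Agent.CycB.DivFun.LocFin.finite_of_isCompact
      (Groth.Agent.CycB.DivFun.locFin_support α') (K := Set.univ) isCompact_univ
    have h1 := this.image Subtype.val
    refine h1.subset ?_
    intro x hx
    exact ⟨⟨x, hx⟩, trivial, rfl⟩
  obtain ⟨j, f, hj⟩ := Ev.finset (i := i) hfin.toFinset
    (fun ξ _ => ev_good D c hc i ξ (0 : c.pt.residueField ξ))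
  have hgood : ∀ ξ, α' ξ ≠ 0 → Good D c ξ 0 j := fun ξ hξ => by
    have := hj j (𝟙 j) ξ (hfin.mem_toFinset.2 hξ)
    exact this
  have hgen : ∀ ξ, α' ξ ≠ 0 → FibGen (c.π.app j) ξ := by
    intro ξ hξ y hy hyξ
    exact (hyξ.antisymm ((hgood ξ hξ).1 y hy)).eq
  let b : D.obj j → ℤ := fun x => if h : ∃ ξ, α' ξ ≠ 0 ∧ c.π.app j ξ = x then α' h.choose else 0
  have hb : ∀ ξ, α' ξ ≠ 0 → b (c.π.app j ξ) = α' ξ := by
    intro ξ hξ
    have h : ∃ ζ, α' ζ ≠ 0 ∧ c.π.app j ζ = c.π.app j ξ := ⟨ξ, hξ, rfl⟩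
    simp only [b]
    rw [dif_pos h]
    congr 1
    exact (((hgood _ h.choose_spec.1).1 ξ h.choose_spec.2.symm).antisymm
      ((hgood ξ hξ).1 _ h.choose_spec.2)).eq
  have hb' : ∀ x, b x ≠ 0 → ∃ ξ, α' ξ ≠ 0 ∧ c.π.app j ξ = x := by
    intro x hx
    by_contra h
    exact hx (dif_neg h)
  obtain ⟨α, hα⟩ : ∃ α : AlgebraicCycle (D.obj j) ℤ, ⇑α = b := by
    refine exists_locallyFinsupp b fun x => ⟨Set.univ, isOpen_univ, trivial, ?_⟩
    rw [Set.univ_inter]
    refine (hfin.image (c.π.app j)).subset ?_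
    rintro x hx
    obtain ⟨ξ, h1, h2⟩ := hb' x hx
    exact ⟨ξ, h1, h2⟩
  refine ⟨j, α, ?_, ?_⟩
  · intro x hx
    by_contra h
    rw [hα] at h
    obtain ⟨ξ, h1, rfl⟩ := hb' x h
    apply hx
    rw [← hshift' j ξ (hgen ξ h1)]
    by_contra h2
    exact h1 (hα' ξ h2)
  · funext y
    change (if δ' y = δ j (c.π.app j y) + 0 then α (c.π.app j y) * ((mult (c.π.app j) y).toNat : ℤ) else 0) = α' y
    by_cases hy : α' y = 0
    · rw [hy]
      split_ifs with h
      · by_cases h2 : α (c.π.app j y) = 0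
        · rw [h2, zero_mul]
        · exfalso
          rw [hα] at h2
          obtain ⟨ξ, h3, h4⟩ := hb' _ h2
          have h5 := (hgood ξ h3).1 y h4.symm
          have h6 : ξ ≠ y := by
            rintro rfl
            exact h3 hy
          have h7 := (hset'.2.2 ξ y h5 h6).1
          rw [hshift' j ξ (hgen ξ h3), h4, h, add_zero] at h7
          exact lt_irrefl _ h7
      · rfl
    · rw [if_pos (by rw [add_zero]; exact hshift' j y (hgen y hy)), (hgood y hy).2.1, hα, hb y hy]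
      simp

end K306.LimSurj
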