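import Groth.Agent.Cyc.K306.Fibre

/-!
# Spreading out rational equivalences on the fibres of a quasi-compact morphism
-/

set_option autoImplicit false
universe u
open CategoryTheory AlgebraicGeometry CategoryTheory.Limits Opposite

namespace K306.Spread

open Groth.Agent Groth.Agent.CycB Cyc FinRat DivFun
open K306.Fibre

variable {P X : Scheme.{u}} {p : P ⟶ X} {δP : P → ℤ} {δ : X → ℤ}

theorem delta_le_of_specializes {Y : Scheme.{u}} {δY : Y → ℤ} (hY : IsDimFun Y δY) {a b : Y}
    (h : a ⤳ b) : δY b ≤ δY a := by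
  by_cases hab : a = b
  · rw [hab]
  · exact (hY a b h hab).1.le

theorem eq_of_specializes_of_delta_le {Y : Scheme.{u}} {δY : Y → ℤ} (hY : IsDimFun Y δY) {a b : Y}
    (h : a ⤳ b) (hd : δY a ≤ δY b) : a = b := by
  by_contra hab
  have := (hY a b h hab).1
  omega

/-- The images of the points of the support of a cycle form a locally finite family. -/
theorem locFin_image [QuasiCompact p] (B : AlgebraicCycle P ℤ) (S : X → Prop)
    (hS : ∀ x, S x → ∃ w, p w = x ∧ B w ≠ 0) : LocFin (fun x : {x // S x} => x.1) := by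
  intro y
  obtain ⟨U, hU, hyU, -⟩ := exists_isAffineOpen_mem_and_subset (X := X) (x := y) (U := ⊤) trivial
  refine ⟨U, U.2, hyU, ?_⟩
  choose w hw hBw using fun x : {x // S x} => hS x.1 x.2
  have hfin := Push.finite_support_preimage p B U hU.isCompact
  refine (hfin.preimage (f := w) ?_).subset fun x hx => ⟨by rw [hw]; exact hx, hBw x⟩
  intro a _ b _ hab
  apply Subtype.ext
  rw [← hw a, ← hw b, hab]

/-- If the restriction of `B` to the fibres over the points of dimension `m` are finite sums of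
principal divisors, then `B` agrees over these points with a cycle rationally equivalent to zero. -/
theorem exists_spread [QuasiCompact p] [IsLocallyNoetherian P] (hP : IsDimFun P δP)
    (hX : IsDimFun X δ) (B : AlgebraicCycle P ℤ) (m K : ℤ)
    (hfib : ∀ x : X, δ x = m → ∃ (F : Scheme.{u}) (e : F ⟶ P) (q : F ⟶ Spec (X.residueField x)),
      IsPullback e q p (X.fromSpecResidueField x) ∧ (fun z => B (e z)) ∈
        finRat (fun z => δP (e z)) K) :
    ∃ D : AlgebraicCycle P ℤ, RatEquivZero δP K D ∧ (∀ w, D w ≠ 0 → δ (p w) ≤ m) ∧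
      ∀ w, δ (p w) = m → D w = B w := by
  classical
  let S : Type u := {x : X // δ x = m ∧ ∃ w, p w = x ∧ B w ≠ 0}
  have key : ∀ x : S, ∃ (ι : Type u) (_ : Finite ι) (ξ : ι → P)
      (g : (j : ι) → P.residueField (ξ j)), (∀ j, p (ξ j) = x.1) ∧
      (∀ j, δP (ξ j) = K + 1) ∧ (∀ j, g j ≠ 0) ∧
      ∀ w, p w = x.1 → ∑ᶠ j, divFun δP (ξ j) (g j) w = B w := by
    intro x
    obtain ⟨F, e, q, hpb, hF⟩ := hfib x.1 x.2.1
    have := isPreimmersion hpb
    obtain ⟨ι, hι, ξ, g, h1, h2, h3⟩ := exists_family_of_mem e δP hF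
    refine ⟨ι, hι, fun j => e (ξ j), g, fun j => apply_eq hpb _, h1, h2, fun w hw => ?_⟩
    obtain ⟨z, rfl⟩ := (mem_range_iff' hpb w).2 hw
    exact h3 z
  choose ι hι ξ g h1 h2 h3 h4 using key
  let J : Type u := Σ x : S, ι x
  let Ξ : J → P := fun i => ξ i.1 i.2
  let G : (i : J) → P.residueField (Ξ i) := fun i => g i.1 i.2
  have hS : LocFin (fun x : S => x.1) := locFin_image B _ fun x hx => hx.2
  have hJ : LocFin (fun i : J => i.1.1) := hS.comp' (g := fun i : J => i.1) fun x => by
    have := hι x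
    refine (Set.finite_range (fun j : ι x => (⟨x, j⟩ : J))).subset ?_
    rintro ⟨x', j⟩ rfl
    exact ⟨j, rfl⟩
  have hΞ : LocFin Ξ := by
    intro w
    obtain ⟨U, hU, hwU, hfin⟩ := hJ (p w)
    refine ⟨p ⁻¹' U, hU.preimage p.continuous, hwU, hfin.subset fun i hi => ?_⟩
    change i.1.1 ∈ U
    rw [← h1 i.1 i.2]
    exact hi
  obtain ⟨D, hD⟩ := exists_cycle_sum_divFun hP hΞ G
  have hterm : ∀ (i : J) (w : P), divFun δP (Ξ i) (G i) w ≠ 0 → i.1.1 ⤳ p w := by
    intro i w hw
    rw [← h1 i.1 i.2]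
    exact (divFun_ne_zero hw).1.map p.continuous
  refine ⟨D, ratEquivZero_of Ξ G (fun i => h2 _ _) (fun i => h3 _ _) hΞ D hD, ?_, ?_⟩
  · intro w hw
    rw [hD] at hw
    obtain ⟨i, hi⟩ : ∃ i, divFun δP (Ξ i) (G i) w ≠ 0 := by
      by_contra hcon
      push Not at hcon
      exact hw (finsum_eq_zero_of_forall_eq_zero hcon)
    have := delta_le_of_specializes hX (hterm i w hi)
    rw [i.1.2.1] at this
    exact this
  · intro w hw
    rw [hD]
    by_cases hBw : B w = 0
    · by_cases hx : ∃ w', p w' = p w ∧ B w' ≠ 0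
      · let x : S := ⟨p w, hw, hx⟩
        rw [GysinCap.finsum_eq_comp (fun j : ι x => (⟨x, j⟩ : J)) sigma_mk_injective]
        · exact h4 x w rfl
        · rintro ⟨x', j⟩ hi
          by_contra hne
          have h5 := hterm _ _ hne
          have h6 : x'.1 = p w := eq_of_specializes_of_delta_le hX h5 (by rw [x'.2.1, hw])
          have h7 : x' = x := Subtype.ext h6
          subst h7
          exact hi ⟨j, rfl⟩
      · rw [hBw]
        refine finsum_eq_zero_of_forall_eq_zero fun i => ?_
        by_contra hne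
        have h5 := hterm _ _ hne
        have h6 : i.1.1 = p w := eq_of_specializes_of_delta_le hX h5 (by rw [i.1.2.1, hw])
        rw [← h6] at hx
        exact hx i.1.2.2
    · let x : S := ⟨p w, hw, w, rfl, hBw⟩
      rw [GysinCap.finsum_eq_comp (fun j : ι x => (⟨x, j⟩ : J)) sigma_mk_injective]
      · exact h4 x w rfl
      · rintro ⟨x', j⟩ hi
        by_contra hne
        have h5 := hterm _ _ hne
        have h6 : x'.1 = p w := eq_of_specializes_of_delta_le hX h5 (by rw [x'.2.1, hw])
        have h7 : x' = x := Subtype.ext h6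
        subst h7
        exact hi ⟨j, rfl⟩

end K306.Spread
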