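import Groth.Agent.Cyc.K306.FibProj
import Groth.Agent.Cyc.K306.Spread

/-!
# The projective bundle formula for fibrewise projective bundles
-/

set_option autoImplicit false
universe u
open CategoryTheory AlgebraicGeometry CategoryTheory.Limits Opposite

namespace K306.PBFormula

open Groth.Agent Groth.Agent.CycB K930.Chow K930.PushPull K930.OKs K930.Gysin Cyc FinRat
open Groth.Agent.CycB.C1Pull Groth.Agent.CycB.GysinCl
open K306.ChowIt K306.PtCyc K306.Fibre K306.ChowPn K306.Hyper K306.Spread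

variable {P X : Scheme.{u}} {p : P ⟶ X} {L : P.Modules} {n : ℕ} {δP : P → ℤ} {δ : X → ℤ}

section Bounds

theorem c1CapFun_ne_zero {γ : P → ℤ} {t : (ξ : P) → secFibre L ξ} {w : P}
    (h : c1CapFun δP L γ t w ≠ 0) : ∃ ξ, γ ξ ≠ 0 ∧ ξ ⤳ w ∧ δP w + 1 = δP ξ := by
  by_contra hcon
  push Not at hcon
  apply h
  unfold c1CapFun
  refine finsum_eq_zero_of_forall_eq_zero fun ξ => ?_
  by_cases h0 : γ ξ = 0
  · rw [h0, zero_mul]
  · have : secDivFun δP L ξ (t ξ) w = 0 := by
      unfold secDivFun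
      rw [dif_neg fun h1 => hcon ξ h0 h1.1 h1.2]
    rw [this, mul_zero]

theorem itFun_bound (hX : IsDimFun X δ) {γ : P → ℤ} {t : ℕ → (ξ : P) → secFibre L ξ} {m : ℤ}
    (hγ : ∀ ξ, γ ξ ≠ 0 → δ (p ξ) ≤ m) (i : ℕ) :
    ∀ ξ, itFun δP L t γ i ξ ≠ 0 → δ (p ξ) ≤ m := by
  induction i with
  | zero => exact hγ
  | succ i ih =>
    intro w hw
    obtain ⟨ξ, h1, h2, -⟩ := c1CapFun_ne_zero hw
    exact (delta_le_of_specializes hX (h2.map p.continuous)).trans (ih ξ h1)

theorem pullFun_bound {α : AlgebraicCycle X ℤ} {k : ℤ} (hα : α ∈ Zk X δ k) {c : ℤ} (ξ : P)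
    (h : pullFun p δP δ c ⇑α ξ ≠ 0) : δ (p ξ) ≤ k := by
  by_contra hcon
  apply h
  rw [FlatLength.pullFun_apply, hα _ (by omega), zero_mul, ite_self]

end Bounds

section Fib

variable {x : X} {F : Scheme.{u}} {e : F ⟶ P} {q : F ⟶ Spec (X.residueField x)}

/-- Iterated caps restrict to iterated caps on the fibres. -/
theorem itFun_fibre (hpb : IsPullback e q p (X.fromSpecResidueField x))
    (hL : PicF.IsInvertible L) (hX : IsDimFun X δ) {γ : P → ℤ}
    {t : ℕ → (ξ : P) → secFibre L ξ} (ht : ∀ i ξ, t i ξ ≠ 0)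
    (hγ : ∀ ξ, γ ξ ≠ 0 → δ (p ξ) ≤ δ x) (i : ℕ) :
    (fun z => itFun δP L t γ i (e z)) = itFun (fun z => δP (e z))
      ((Scheme.Modules.pullback e).obj L) (fun i ζ => fib e L ζ (t i (e ζ)))
      (fun z => γ (e z)) i := by
  induction i with
  | zero => rfl
  | succ i ih =>
    funext z
    change c1CapFun δP L (itFun δP L t γ i) (t i) (e z) = c1CapFun _ _ (itFun _ _ _ _ i) _ z
    rw [c1CapFun_fibre hpb hL (ht i), ih]
    intro ξ z h1 h2
    have h3 := itFun_bound hX hγ i ξ h1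
    have h4 : p ξ ⤳ x := by
      have := h2.map p.continuous
      rwa [apply_eq hpb] at this
    exact eq_of_specializes_of_delta_le hX h4 h3

end Fib

section Class

variable {x : X} {e : CohB1.ProjSpace n (X.residueField x) ⟶ P}

/-- The class of the restriction of `c_1(L)^i ∩ p^* α` to the fibre over a point of dimension
`k`, for a `k`-cycle `α`. -/
theorem cl_fibre
    (hpb : IsPullback e (CohB1.ProjSpace.toSpec n (X.residueField x)) p (X.fromSpecResidueField x))
    (hL : PicF.IsInvertible L)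
    (ε : (Scheme.Modules.pullback e).obj L ≅ O1 n (X.residueField x))
    (hX : IsSetup X δ) (hδ : DeltaCompat p δP δ) {k : ℤ} (hx : δ x = k)
    {α : AlgebraicCycle X ℤ} (hα : α ∈ Zk X δ k) {t : ℕ → (ξ : P) → secFibre L ξ}
    (ht : ∀ i ξ, t i ξ ≠ 0) {i : ℕ} {β : AlgebraicCycle P ℤ}
    (hβ : ⇑β = itFun δP L t (pullFun p δP δ n ⇑α) i) {l : ℤ} (hl : δ x + n = l + i) :
    ∃ hm : RatTransport.comapCycle e (injective hpb) β ∈
      Zk (CohB1.ProjSpace n (X.residueField x)) (fun z => δP (e z)) l,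
      ChowOps.cl (RatTransport.comapCycle e (injective hpb) β) hm =
        α x • c1It (setup (compat hpb hδ)) (isInvertible_O1 n (X.residueField x)) i hl
          (fund (compat hpb hδ)) := by
  have hc := compat hpb hδ
  have hs := setup hc
  have hLe : PicF.IsInvertible ((Scheme.Modules.pullback e).obj L) := isInvertible_pullback e hL
  have hbase : (fun z => pullFun p δP δ n ⇑α (e z)) =
      ⇑(α x • ptCyc (genericPoint (CohB1.ProjSpace n (X.residueField x)))) := by
    funext z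
    rw [FibProj.pull_fibre hpb hδ, Function.locallyFinsuppWithin.coe_zsmul, Pi.smul_apply, smul_eq_mul,
      ptCyc_coe]
  have hbd : ∀ ξ, pullFun p δP δ n ⇑α ξ ≠ 0 → δ (p ξ) ≤ δ x := fun ξ h => by
    rw [hx]; exact pullFun_bound hα ξ h
  have hit := itFun_fibre (δP := δP) hpb hL hX.2.2 ht hbd i
  have hcoe : ⇑(RatTransport.comapCycle e (injective hpb) β) = itFun (fun z => δP (e z))
      ((Scheme.Modules.pullback e).obj L) (fun i ζ => fib e L ζ (t i (e ζ)))
      ⇑(α x • ptCyc (genericPoint (CohB1.ProjSpace n (X.residueField x)))) i := by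
    rw [← hbase, ← hit]
    funext z
    rw [RatTransport.comapCycle_apply, hβ]
  have hm0 : α x • ptCyc (genericPoint (CohB1.ProjSpace n (X.residueField x))) ∈
      Zk (CohB1.ProjSpace n (X.residueField x)) (fun z => δP (e z)) (δ x + n) :=
    zsmul_mem (ptCyc_mem (delta_generic hc)) _
  obtain ⟨hm, h1⟩ := c1It_cl hs hLe (t := fun i ζ => fib e L ζ (t i (e ζ)))
    (fun i ζ => fib_ne_zero e hL (ht i (e ζ)))
    (γ := itFun (fun z => δP (e z)) ((Scheme.Modules.pullback e).obj L)
      (fun i ζ => fib e L ζ (t i (e ζ)))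
      ⇑(α x • ptCyc (genericPoint (CohB1.ProjSpace n (X.residueField x))))) rfl
    (fun i => rfl) hcoe hl hm0
  refine ⟨hm, ?_⟩
  rw [← h1, c1It_iso hs hLe (isInvertible_O1 n (X.residueField x)) ε, cl_zsmul, map_zsmul]
  rfl

end Class

/-- In maximal dimension, rational equivalence is equality. -/
theorem eq_of_cl_eq {Y : Scheme.{u}} {δY : Y → ℤ} {k : ℤ} (h : ∀ y, δY y ≤ k)
    {α β : AlgebraicCycle Y ℤ} (hα : α ∈ Zk Y δY k) (hβ : β ∈ Zk Y δY k)
    (e : ChowOps.cl α hα = ChowOps.cl β hβ) : α = β := by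
  rw [cl_eq_cl] at e
  obtain ⟨ι, ξ, f, h1, -, -, h4⟩ := e
  apply DFunLike.coe_injective
  funext y
  have h5 := h4 y
  have : IsEmpty ι := ⟨fun i => by have := h (ξ i); rw [h1] at this; omega⟩
  rw [finsum_of_isEmpty] at h5
  exact sub_eq_zero.1 h5

theorem itFun_mem (hP : IsSetup P δP) (hL : PicF.IsInvertible L) {k : ℤ}
    {α : AlgebraicCycle P ℤ} (hα : α ∈ Zk P δP k) {t : ℕ → (ξ : P) → secFibre L ξ}
    (ht : ∀ i ξ, t i ξ ≠ 0) {i : ℕ} {β : AlgebraicCycle P ℤ}
    (hβ : ⇑β = itFun δP L t ⇑α i) {l : ℤ} (hl : k = l + i) : β ∈ Zk P δP l :=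
  (c1It_cl hP hL ht (γ := itFun δP L t ⇑α) rfl (fun _ => rfl) hβ hl hα).choose

section Formula

variable (h : FibProj p L n) (hP : IsSetup P δP) (hδ : DeltaCompat p δP δ) (hX : IsSetup X δ)

include h hδ in
theorem shift : Shift p δP δ n := by
  have := h.proper
  exact shift_of_hasRelDim h.hasRelDim hδ

include h hP hδ

/-- The coefficient-level membership for iterated caps of a flat pullback. -/
theorem cap_mem {k : ℤ} {α : AlgebraicCycle X ℤ} (hα : α ∈ Zk X δ k)
    {t : ℕ → (ξ : P) → secFibre L ξ} (ht : ∀ i ξ, t i ξ ≠ 0) {i : ℕ} {β : AlgebraicCycle P ℤ}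
    (hβ : ⇑β = itFun δP L t (pullFun p δP δ n ⇑α) i) {l : ℤ} (hl : k + n = l + i) :
    β ∈ Zk P δP l := by
  have := h.flat
  have hsh := shift h hδ
  have h1 : ⇑β = itFun δP L t ⇑(pullCyc p hP hsh α) i := by
    rw [hβ, pullCyc_coe]
  exact itFun_mem hP h.inv (pullCyc_mem p hP hsh rfl hα) ht h1 hl

include hX

/-- `p_* (c_1(L)^s ∩ p^* α) = 0` for `s < n`. -/
theorem push_cap_eq_zero [IsProper p] {k : ℤ} {α : AlgebraicCycle X ℤ} (hα : α ∈ Zk X δ k)
    {t : ℕ → (ξ : P) → secFibre L ξ} (ht : ∀ i ξ, t i ξ ≠ 0) {s : ℕ} (hs : s < n)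
    {β : AlgebraicCycle P ℤ} (hβ : ⇑β = itFun δP L t (pullFun p δP δ n ⇑α) s) :
    AlgebraicCycle.map p δP δ β = 0 := by
  apply DFunLike.coe_injective
  funext x
  rw [Push.map_apply]
  change _ = (0 : ℤ)
  refine finsum_mem_eq_zero_of_forall_eq_zero fun w hw => ?_
  obtain rfl : p w = x := hw
  by_cases hβw : β w = 0
  · rw [hβw, zero_mul]
  · have h1 : δP w = k + n - s := by
      by_contra hne
      exact hβw (cap_mem h hP hδ hα ht hβ (l := k + n - s) (by ring) w hne)
    have h2 : δ (p w) ≤ k := by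
      refine itFun_bound (δP := δP) (t := t) (γ := pullFun p δP δ n ⇑α) hX.2.2
        (fun ξ hξ => pullFun_bound hα ξ hξ) s w ?_
      rwa [← hβ]
    have h3 : AlgebraicCycle.mapCoeff p δP δ w = 0 := by
      unfold AlgebraicCycle.mapCoeff
      rw [if_neg (by omega)]
    rw [h3, Nat.cast_zero, mul_zero]

/-- `p_* (c_1(L)^n ∩ p^* α) = α`. -/
theorem push_cap_eq [IsProper p] {k : ℤ} {α : AlgebraicCycle X ℤ} (hα : α ∈ Zk X δ k)
    {t : ℕ → (ξ : P) → secFibre L ξ} (ht : ∀ i ξ, t i ξ ≠ 0)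
    {β : AlgebraicCycle P ℤ} (hβ : ⇑β = itFun δP L t (pullFun p δP δ n ⇑α) n) :
    AlgebraicCycle.map p δP δ β = α := by
  apply DFunLike.coe_injective
  funext x
  by_cases hx : δ x = k
  · obtain ⟨e, hpb, ⟨ε⟩⟩ := h.fib x
    obtain ⟨hm, hcl⟩ := cl_fibre hpb h.inv ε hX hδ hx hα ht hβ (l := δ x) rfl
    have hc := compat hpb hδ
    rw [map_fibre hpb β (genericPoint (Spec (CommRingCat.of (X.residueField x))))]
    have h0 := pushCH_c1It n _ hc
    have h1 : pushCH (CohB1.ProjSpace.toSpec n (X.residueField x))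
        (isSetup_field (X.residueField x) (δ x)) hc (δ x) (ChowOps.cl _ hm) =
        ChowOps.cl (α x • ptCyc (genericPoint (Spec (CommRingCat.of (X.residueField x)))))
          (zsmul_mem (ptCyc_mem rfl) _) := by
      refine (congrArg _ hcl).trans ((map_zsmul _ _ _).trans ?_)
      exact (congrArg _ h0).trans (cl_zsmul _ _ (ptCyc_mem rfl)).symm
    have h2 := eq_of_cl_eq (fun _ => le_rfl) _ _ h1
    have h3 := congrArg (fun c : AlgebraicCycle (Spec (CommRingCat.of (X.residueField x))) ℤ =>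
      c (genericPoint (Spec (CommRingCat.of (X.residueField x))))) h2
    refine Eq.trans h3 ?_
    rw [Function.locallyFinsuppWithin.coe_zsmul, Pi.smul_apply, ptCyc_self, smul_eq_mul, mul_one]
  · rw [hα x hx]
    have hβm := cap_mem h hP hδ hα ht hβ (l := k) rfl
    exact Bivar.cycMap_mem_Zk p δP δ k hβm x hx

/-- `c_1(L)^i ∩ p^* -` on Chow groups. -/
noncomputable def capPull (i : ℕ) {k l : ℤ} (hl : k + n = l + i) :
    ChowOps.CH X δ k →+ ChowOps.CH P δP l :=
  haveI := h.flat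
  (c1It hP h.inv i hl).comp (pullCH p hP hX (shift h hδ) rfl)

theorem capPull_cl {k : ℤ} {α : AlgebraicCycle X ℤ} (hα : α ∈ Zk X δ k)
    {t : ℕ → (ξ : P) → secFibre L ξ} (ht : ∀ i ξ, t i ξ ≠ 0) {i : ℕ} {β : AlgebraicCycle P ℤ}
    (hβ : ⇑β = itFun δP L t (pullFun p δP δ n ⇑α) i) {l : ℤ} (hl : k + n = l + i) :
    capPull h hP hδ hX i hl (ChowOps.cl α hα) = ChowOps.cl β (cap_mem h hP hδ hα ht hβ hl) := by
  have := h.flat
  have hsh := shift h hδ
  have h1 : ⇑β = itFun δP L t ⇑(pullCyc p hP hsh α) i := by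
    rw [hβ, pullCyc_coe]
  obtain ⟨hm, e⟩ := c1It_cl hP h.inv ht (γ := itFun δP L t ⇑(pullCyc p hP hsh α)) rfl
    (fun _ => rfl) h1 hl (pullCyc_mem p hP hsh rfl hα)
  exact e

omit hX in
/-- Cycles representing iterated caps of flat pullbacks exist. -/
theorem exists_cap (α : AlgebraicCycle X ℤ)
    {t : ℕ → (ξ : P) → secFibre L ξ} (ht : ∀ i ξ, t i ξ ≠ 0) (i : ℕ) :
    ∃ β : AlgebraicCycle P ℤ, ⇑β = itFun δP L t (pullFun p δP δ n ⇑α) i := by
  have := h.flat
  have hsh := shift h hδ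
  obtain ⟨β, hβ, -⟩ := exists_c1It_cl hP h.inv ht (α := pullCyc p hP hsh α)
    (γ := itFun δP L t ⇑(pullCyc p hP hsh α)) rfl (fun _ => rfl) i
  exact ⟨β, by rw [hβ, pullCyc_coe]⟩

theorem pushCH_capPull_eq_zero [IsProper p] {s : ℕ} (hs : s < n) {k l : ℤ} (hl : k + n = l + s)
    (x : ChowOps.CH X δ k) : pushCH p hX hδ l (capPull h hP hδ hX s hl x) = 0 := by
  obtain ⟨α, hα, rfl⟩ := Bivar.exists_rep x
  have ht : ∀ (i : ℕ) (ξ : P), nz h.inv ξ ≠ 0 := fun _ ξ => nz_ne_zero h.inv ξ
  obtain ⟨β, hβ⟩ := exists_cap h hP hδ α (t := fun _ => nz h.inv) ht s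
  rw [capPull_cl h hP hδ hX hα ht hβ hl, pushCH_cl]
  have := push_cap_eq_zero h hP hδ hX hα ht hs hβ
  exact (Bivar.cl_congr this _ zero_mem).trans cl_zero

theorem pushCH_capPull_eq [IsProper p] {k : ℤ} (hl : k + n = k + (n : ℕ))
    (x : ChowOps.CH X δ k) : pushCH p hX hδ k (capPull h hP hδ hX n hl x) = x := by
  obtain ⟨α, hα, rfl⟩ := Bivar.exists_rep x
  have ht : ∀ (i : ℕ) (ξ : P), nz h.inv ξ ≠ 0 := fun _ ξ => nz_ne_zero h.inv ξ
  obtain ⟨β, hβ⟩ := exists_cap h hP hδ α (t := fun _ => nz h.inv) ht n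
  rw [capPull_cl h hP hδ hX hα ht hβ hl, pushCH_cl]
  exact Bivar.cl_congr (push_cap_eq h hP hδ hX hα ht hβ) _ _

theorem c1It_capPull {i m : ℕ} {k l l' : ℤ} (hl : k + n = l + i) (hl' : l = l' + m)
    (h' : k + n = l' + (i + m : ℕ)) (x : ChowOps.CH X δ k) :
    c1It hP h.inv m hl' (capPull h hP hδ hX i hl x) = capPull h hP hδ hX (i + m) h' x :=
  c1It_c1It hP h.inv hl hl' h' _

/-- Independence of the classes. -/
theorem capPull_injective [IsProper p] {k : ℤ}
    (x : (i : Fin (n + 1)) → ChowOps.CH X δ (k + ((i : ℕ) : ℤ)))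
    (h0 : ∑ i : Fin (n + 1), capPull h hP hδ hX (i : ℕ) (l := k + n) (by ring) (x i) = 0) :
    ∀ i, x i = 0 := by
  have key : ∀ m : ℕ, ∀ i : Fin (n + 1), n - (i : ℕ) = m → x i = 0 := by
    intro m
    induction m using Nat.strong_induction_on with
    | _ m ih =>
      intro i hi
      have hi' : (i : ℕ) ≤ n := Nat.lt_succ_iff.1 i.2
      have h1 := congrArg (fun y => pushCH p hX hδ (k + ((i : ℕ) : ℤ))
        (c1It hP h.inv (n - (i : ℕ)) (k := k + n) (l := k + ((i : ℕ) : ℤ))
          (by push_cast [Nat.cast_sub hi']; ring) y)) h0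
      simp only [map_sum, map_zero] at h1
      rw [Finset.sum_eq_single i] at h1
      · rw [c1It_capPull h hP hδ hX (h' := by push_cast [Nat.cast_sub hi']; ring)] at h1
        have h2 : (i : ℕ) + (n - (i : ℕ)) = n := by omega
        have h3 : ∀ (s : ℕ) (hs : s = n) (hl : k + ((i : ℕ) : ℤ) + n = k + ((i : ℕ) : ℤ) + s),
            pushCH p hX hδ (k + ((i : ℕ) : ℤ)) (capPull h hP hδ hX s hl (x i)) = x i := by
          rintro s rfl hl
          exact pushCH_capPull_eq h hP hδ hX hl (x i)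
        rw [h3 _ h2] at h1
        exact h1
      · intro j _ hji
        by_cases hlt : (j : ℕ) < (i : ℕ)
        · rw [c1It_capPull h hP hδ hX (h' := by push_cast [Nat.cast_sub hi']; ring)]
          exact pushCH_capPull_eq_zero h hP hδ hX (by omega) _ _
        · have hne : (j : ℕ) ≠ (i : ℕ) := fun e => hji (Fin.ext e)
          have hj' : (j : ℕ) ≤ n := Nat.lt_succ_iff.1 j.2
          rw [ih (n - (j : ℕ)) (by omega) j rfl, map_zero, map_zero, map_zero]
      · intro hi
        exact absurd (Finset.mem_univ i) hi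
  exact fun i => key _ i rfl

/-- One step of the surjectivity: the part over the points of dimension `k + j` of a cycle
supported over the points of dimension at most `k + j` is accounted for by `c_1(L)^j ∩ p^* α`. -/
theorem exists_step [IsProper p] {k m : ℤ} {j : ℕ} (hj : j ≤ n) (hm : m = k + j)
    (β : AlgebraicCycle P ℤ) (hβ : β ∈ Zk P δP (k + n)) (hsupp : ∀ w, β w ≠ 0 → δ (p w) ≤ m) :
    ∃ (α : AlgebraicCycle X ℤ) (hα : α ∈ Zk X δ m) (β' : AlgebraicCycle P ℤ)
      (hβ' : β' ∈ Zk P δP (k + n)), (∀ w, β' w ≠ 0 → δ (p w) < m) ∧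
      ChowOps.cl β hβ = capPull h hP hδ hX j (by rw [hm]; ring) (ChowOps.cl α hα) +
        ChowOps.cl β' hβ' := by
  classical
  have := hP.1
  have ht : ∀ (i : ℕ) (ξ : P), nz h.inv ξ ≠ 0 := fun _ ξ => nz_ne_zero h.inv ξ
  choose e hpb hε using h.fib
  -- the restriction of the cycle to the fibre
  have hres : ∀ x : X, RatTransport.comapCycle (e x) (injective (hpb x)) β ∈
      Zk (CohB1.ProjSpace n (X.residueField x)) (fun z => δP (e x z)) (k + n) := fun x =>
    RatTransport.comapCycle_mem_Zk (e x) _ δP (k + n) β hβ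
  have hk : ∀ x : X, δ x = m → δ x + n = (k + n) + j := fun x hx => by rw [hx, hm]; ring
  have hex : ∀ x : X, ∃ a : ℤ, ∀ hx : δ x = m,
      ChowOps.cl (RatTransport.comapCycle (e x) (injective (hpb x)) β) (hres x) =
        a • c1It (setup (compat (hpb x) hδ)) (isInvertible_O1 n (X.residueField x)) j (hk x hx)
          (fund (compat (hpb x) hδ)) := by
    intro x
    by_cases hx : δ x = m
    · obtain ⟨a, ha⟩ := exists_zsmul n _ (compat (hpb x) hδ) j hj (hk x hx)
        (ChowOps.cl (RatTransport.comapCycle (e x) (injective (hpb x)) β) (hres x))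
      exact ⟨a, fun _ => ha⟩
    · exact ⟨0, fun h => absurd h hx⟩
  choose a ha using hex
  -- the cycle on the base
  let S : X → Prop := fun x => δ x = m ∧ ∃ w, p w = x ∧ β w ≠ 0
  obtain ⟨α, hα⟩ := DivFun.exists_locallyFinsupp (fun x => if S x then a x else 0) (by
    intro x
    obtain ⟨U, hU, hxU, hfin⟩ := locFin_image β S (fun x hx => hx.2) x
    refine ⟨U, hU, hxU, (hfin.image (fun x => x.1)).subset ?_⟩
    rintro y ⟨hyU, hy⟩
    have hSy : S y := by
      by_contra hcon
      exact hy (if_neg hcon)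
    exact ⟨⟨y, hSy⟩, hyU, rfl⟩)
  change AlgebraicCycle X ℤ at α
  have hαx : ∀ x, α x = if S x then a x else 0 := fun x => congrFun hα x
  have hαm : α ∈ Zk X δ m := by
    intro x hx
    rw [hαx, if_neg fun h => hx h.1]
  obtain ⟨γ, hγ⟩ := exists_cap h hP hδ α (t := fun _ => nz h.inv) ht j
  have hγm : γ ∈ Zk P δP (k + n) :=
    cap_mem h hP hδ hαm ht hγ (l := k + n) (by rw [hm]; ring)
  have hγsupp : ∀ w, γ w ≠ 0 → δ (p w) ≤ m := by
    intro w hw
    refine itFun_bound (δP := δP) (t := fun _ => nz h.inv) (γ := pullFun p δP δ n ⇑α) hX.2.2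
        (fun ξ hξ => pullFun_bound hαm ξ hξ) j w ?_
    rwa [← hγ]
  -- spreading out the rational equivalence on the fibres
  obtain ⟨D, hD, hD1, hD2⟩ := exists_spread (δP := δP) (p := p) hP.2.2 hX.2.2 (β - γ) m (k + n) (by
    intro x hx
    refine ⟨_, e x, _, hpb x, ?_⟩
    obtain ⟨hm', hcl⟩ := cl_fibre (hpb x) h.inv (hε x).some hX hδ hx hαm ht hγ (hk x hx)
    have h1 : α x • c1It (setup (compat (hpb x) hδ)) (isInvertible_O1 n (X.residueField x)) j
        (hk x hx) (fund (compat (hpb x) hδ)) =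
        a x • c1It (setup (compat (hpb x) hδ)) (isInvertible_O1 n (X.residueField x)) j
        (hk x hx) (fund (compat (hpb x) hδ)) := by
      by_cases hSx : S x
      · rw [hαx, if_pos hSx]
      · have h00 : α x = 0 := by rw [hαx, if_neg hSx]
        refine (congrArg (· • _) h00).trans ((zero_smul ℤ _).trans (Eq.trans ?_ (ha x hx)))
        have h0 : RatTransport.comapCycle (e x) (injective (hpb x)) β = 0 := by
          apply DFunLike.coe_injective
          funext z
          rw [RatTransport.comapCycle_apply]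
          by_contra hne
          exact hSx ⟨hx, e x z, apply_eq (hpb x) z, hne⟩
        exact ((Bivar.cl_congr h0 (hres x) zero_mem).trans cl_zero).symm
    have h2 := (ha x hx).trans (h1.symm.trans hcl.symm)
    rw [cl_eq_cl, K711.FinRatCpt.ratEquiv_iff] at h2
    exact h2)
  have hDm : D ∈ Zk P δP (k + n) := by
    obtain ⟨ι, ξ, f, h1, h2, h3, h4⟩ := hD
    intro w hw
    rw [h4]
    refine finsum_eq_zero_of_forall_eq_zero fun i => OrdFrac.divFun_eq_zero _ ?_ _
    rintro ⟨-, h5⟩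
    rw [h1] at h5
    omega
  have hβ'm : β - γ - D ∈ Zk P δP (k + n) := sub_mem (sub_mem hβ hγm) hDm
  refine ⟨α, hαm, β - γ - D, hβ'm, ?_, ?_⟩
  · intro w hw
    by_contra hcon
    push Not at hcon
    apply hw
    change (β - γ) w - D w = 0
    by_cases hwm : δ (p w) = m
    · rw [hD2 w hwm, sub_self]
    · have h1 : β w = 0 := by
        by_contra hne
        have := hsupp w hne
        omega
      have h2 : γ w = 0 := by
        by_contra hne
        have := hγsupp w hne
        omega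
      have h3 : D w = 0 := by
        by_contra hne
        have := hD1 w hne
        omega
      rw [h3]
      change β w - γ w - 0 = 0
      rw [h1, h2]
      rfl
  · rw [capPull_cl h hP hδ hX hαm ht hγ, cl_sub _ _ (sub_mem hβ hγm) hDm, cl_sub _ _ hβ hγm,
      (cl_eq_zero hDm).2 hD]
    abel

/-- Surjectivity: every class in `CH_{k+n}(P)` is `Σ_{i ≤ n} c_1(L)^i ∩ p^* x_i`. -/
theorem capPull_surjective [IsProper p] {k : ℤ} (y : ChowOps.CH P δP (k + n)) :
    ∃ x : (i : Fin (n + 1)) → ChowOps.CH X δ (k + ((i : ℕ) : ℤ)),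
      y = ∑ i : Fin (n + 1), capPull h hP hδ hX (i : ℕ) (l := k + n) (by ring) (x i) := by
  have key : ∀ j : ℕ, j ≤ n + 1 → ∀ (β : AlgebraicCycle P ℤ) (hβ : β ∈ Zk P δP (k + n)),
      (∀ w, β w ≠ 0 → δ (p w) < k + j) →
      ∃ x : (i : Fin (n + 1)) → ChowOps.CH X δ (k + ((i : ℕ) : ℤ)), ChowOps.cl β hβ =
        ∑ i : Fin (n + 1), capPull h hP hδ hX (i : ℕ) (l := k + n) (by ring) (x i) := by
    intro j
    induction j with
    | zero =>
      intro _ β hβ hsupp
      refine ⟨fun _ => 0, ?_⟩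
      simp only [map_zero, Finset.sum_const_zero]
      have h0 : β = 0 := by
        apply DFunLike.coe_injective
        funext w
        by_contra hne
        have h1 := hsupp w hne
        have h2 : δP w = k + n := by
          by_contra h3
          exact hne (hβ w h3)
        have h3 := RelDim.delta_le h.hasRelDim hδ w
        simp only [Nat.cast_zero, add_zero] at h1
        omega
      exact (Bivar.cl_congr h0 hβ zero_mem).trans cl_zero
    | succ j ih =>
      intro hj β hβ hsupp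
      obtain ⟨α, hα, β', hβ', h1, h2⟩ := exists_step h hP hδ hX (k := k) (m := k + j) (j := j)
        (by omega) rfl β hβ (fun w hw => by have := hsupp w hw; push_cast at this; omega)
      obtain ⟨x, hx⟩ := ih (by omega) β' hβ' h1
      classical
      let i₀ : Fin (n + 1) := ⟨j, by omega⟩
      refine ⟨fun i => x i + if hi : i = i₀ then
        Bivar.chCast X δ (by rw [hi]) (ChowOps.cl α hα) else 0, ?_⟩
      simp only [map_add, Finset.sum_add_distrib]
      refine Eq.trans (h2.trans (add_comm _ _)) (congrArg₂ (· + ·) hx ?_)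
      rw [Finset.sum_eq_single i₀]
      · rw [dif_pos rfl]
        rfl
      · intro i _ hi
        rw [dif_neg hi, map_zero]
      · intro hi
        exact absurd (Finset.mem_univ _) hi
  obtain ⟨β, hβ, rfl⟩ := Bivar.exists_rep y
  refine key (n + 1) le_rfl β hβ fun w hw => ?_
  have h2 : δP w = k + n := by
    by_contra h3
    exact hw (hβ w h3)
  obtain ⟨r, -, h4⟩ := hδ w
  push_cast
  omega

end Formula

end K306.PBFormula
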