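import Groth.Agent.Cyc.K306.PBFormula

/-!
# The projective bundle formula in terms of cycles

For `h : FibProj p L n`: `push_cap`, `independent`, `span` (with arbitrary families of nonzero rational sections).
-/

set_option autoImplicit false
universe u
open CategoryTheory AlgebraicGeometry CategoryTheory.Limits Opposite

namespace K306.FibProj

open Groth.Agent Groth.Agent.CycB K930.Chow K930.PushPull K930.OKs K930.Gysin Cyc FinRat
open K306.ChowIt K306.PBFormula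

theorem cl_sum {X : Scheme.{u}} {δ : X → ℤ} {k : ℤ} {ι : Type*} (s : Finset ι) (β : ι → AlgebraicCycle X ℤ)
    (hm : ∀ i, β i ∈ Zk X δ k) :
    ∃ hs : ∑ i ∈ s, β i ∈ Zk X δ k, ChowOps.cl (∑ i ∈ s, β i) hs = ∑ i ∈ s, ChowOps.cl (β i) (hm i) := by
  classical
  induction s using Finset.induction_on with
  | empty => exact ⟨zero_mem, cl_zero⟩
  | insert a s ha ih =>
    obtain ⟨hs, e⟩ := ih
    have h1 : ∑ i ∈ insert a s, β i = β a + ∑ i ∈ s, β i := Finset.sum_insert ha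
    have h2 : ∑ i ∈ insert a s, β i ∈ Zk X δ k := by rw [h1]; exact add_mem (hm a) hs
    refine ⟨h2, (Bivar.cl_congr h1 h2 (add_mem (hm a) hs)).trans ?_⟩
    rw [cl_add _ _ (hm a) hs, e]
    exact (Finset.sum_insert (f := fun i => ChowOps.cl (β i) (hm i)) ha).symm

theorem coe_sum_apply {X : Scheme.{u}} {ι : Type*} (s : Finset ι) (β : ι → AlgebraicCycle X ℤ) (x : X) :
    (∑ i ∈ s, β i : AlgebraicCycle X ℤ) x = ∑ i ∈ s, β i x := by
  classical
  induction s using Finset.induction_on with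
  | empty => rfl
  | insert a s ha ih => rw [Finset.sum_insert ha, Finset.sum_insert ha, ← ih]; rfl

variable {P X : Scheme.{u}} {p : P ⟶ X} {L : P.Modules} {n : ℕ} {δP : P → ℤ} {δ : X → ℤ}
  (h : FibProj p L n) (hP : IsSetup P δP) (hδ : DeltaCompat p δP δ) (hX : IsSetup X δ)

include h hP hδ hX

theorem push_cap [IsProper p] {k : ℤ} {α : AlgebraicCycle X ℤ} (hα : α ∈ Zk X δ k)
    {t : ℕ → (ξ : P) → secFibre L ξ} (ht : ∀ i ξ, t i ξ ≠ 0) {γ : ℕ → P → ℤ}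
    (hγ0 : γ 0 = pullFun p δP δ n ⇑α) (hγs : ∀ i : ℕ, γ (i + 1) = c1CapFun δP L (γ i) (t i)) (s : ℕ)
    {β : AlgebraicCycle P ℤ} (hβ : ⇑β = γ s) (m : ℤ) :
    (s < n → RatEquivZero δ m (AlgebraicCycle.map p δP δ β)) ∧
      (s = n → RatEquiv δ m (AlgebraicCycle.map p δP δ β) α) := by
  have hβ' : ⇑β = itFun δP L t (pullFun p δP δ n ⇑α) s := by rw [hβ, eq_itFun hγ0 hγs]
  have hz : RatEquivZero δ m (0 : AlgebraicCycle X ℤ) :=
    (cl_eq_zero (X := X) (δ := δ) (k := m) (zero_mem (X := X) (δ := δ) (k := m))).1 cl_zero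
  constructor
  · intro hs
    rw [push_cap_eq_zero h hP hδ hX hα ht hs hβ']
    exact hz
  · rintro rfl
    rw [push_cap_eq h hP hδ hX hα ht hβ']
    change RatEquivZero δ m (α - α)
    rw [sub_self]
    exact hz

theorem independent [IsProper p] {k : ℤ} (α : Fin (n + 1) → AlgebraicCycle X ℤ)
    (hα : ∀ i : Fin (n + 1), α i ∈ Zk X δ (k + ((i : ℕ) : ℤ)))
    {t : Fin (n + 1) → ℕ → (ξ : P) → secFibre L ξ} (ht : ∀ i m ξ, t i m ξ ≠ 0)
    {γ : Fin (n + 1) → ℕ → P → ℤ} (hγ0 : ∀ i, γ i 0 = pullFun p δP δ n ⇑(α i))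
    (hγs : ∀ i (m : ℕ), γ i (m + 1) = c1CapFun δP L (γ i m) (t i m))
    {β : AlgebraicCycle P ℤ} (hβ : ∀ x, β x = ∑ i : Fin (n + 1), γ i (i : ℕ) x)
    (h0 : RatEquivZero δP (k + n) β) : ∀ i : Fin (n + 1), RatEquivZero δ (k + ((i : ℕ) : ℤ)) (α i) := by
  choose β' hβ' using fun i : Fin (n + 1) => exists_cap h hP hδ (α i) (ht i) (i : ℕ)
  have hl : ∀ i : Fin (n + 1), (k + ((i : ℕ) : ℤ)) + n = (k + n) + ((i : ℕ) : ℤ) := fun i => by ring
  have hm : ∀ i, β' i ∈ Zk P δP (k + n) := fun i => cap_mem h hP hδ (hα i) (ht i) (hβ' i) (hl i)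
  have e1 : β = ∑ i, β' i := by
    apply DFunLike.coe_injective
    funext x
    rw [hβ x, coe_sum_apply]
    refine Finset.sum_congr rfl fun i _ => ?_
    rw [hβ', eq_itFun (hγ0 i) (hγs i)]
  obtain ⟨hs, e2⟩ := cl_sum (δ := δP) (k := k + n) Finset.univ β' hm
  have key : ∑ i : Fin (n + 1), capPull h hP hδ hX (i : ℕ) (l := k + n) (by ring)
      (ChowOps.cl (α i) (hα i)) = 0 := by
    have h1 : ChowOps.cl (∑ i, β' i) hs = 0 := (cl_eq_zero hs).2 (by rw [← e1]; exact h0)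
    rw [← h1, e2]
    refine Finset.sum_congr rfl fun i _ => ?_
    exact capPull_cl h hP hδ hX (hα i) (ht i) (hβ' i) (hl i)
  intro i
  exact (cl_eq_zero (hα i)).1 (capPull_injective h hP hδ hX (fun i => ChowOps.cl (α i) (hα i)) key i)

theorem span [IsProper p] {k : ℤ} {t : Fin (n + 1) → ℕ → (ξ : P) → secFibre L ξ} (ht : ∀ i m ξ, t i m ξ ≠ 0)
    {β : AlgebraicCycle P ℤ} (hβ : β ∈ Zk P δP (k + n)) :
    ∃ (α : Fin (n + 1) → AlgebraicCycle X ℤ) (γ : Fin (n + 1) → ℕ → P → ℤ) (β' : AlgebraicCycle P ℤ),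
      (∀ i : Fin (n + 1), α i ∈ Zk X δ (k + ((i : ℕ) : ℤ))) ∧
      (∀ i : Fin (n + 1), γ i 0 = pullFun p δP δ n ⇑(α i)) ∧
      (∀ (i : Fin (n + 1)) (m : ℕ), γ i (m + 1) = c1CapFun δP L (γ i m) (t i m)) ∧
      (∀ x, β' x = ∑ i : Fin (n + 1), γ i (i : ℕ) x) ∧ RatEquiv δP (k + n) β β' := by
  obtain ⟨x, hx⟩ := capPull_surjective h hP hδ hX (ChowOps.cl β hβ)
  choose α hα hαx using fun i => Bivar.exists_rep (x i)
  choose β' hβ' using fun i : Fin (n + 1) => exists_cap h hP hδ (α i) (ht i) (i : ℕ)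
  have hl : ∀ i : Fin (n + 1), (k + ((i : ℕ) : ℤ)) + n = (k + n) + ((i : ℕ) : ℤ) := fun i => by ring
  have hm : ∀ i, β' i ∈ Zk P δP (k + n) := fun i => cap_mem h hP hδ (hα i) (ht i) (hβ' i) (hl i)
  obtain ⟨hs, e2⟩ := cl_sum (δ := δP) (k := k + n) Finset.univ β' hm
  refine ⟨α, fun i => itFun δP L (t i) (pullFun p δP δ n ⇑(α i)), ∑ i, β' i, hα, fun i => rfl,
    fun i m => rfl, fun x => ?_, ?_⟩
  · rw [coe_sum_apply]
    exact Finset.sum_congr rfl fun i _ => by rw [hβ']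
  · rw [← cl_eq_cl hβ hs, e2, hx]
    refine Finset.sum_congr rfl fun i _ => ?_
    rw [← hαx i]
    exact capPull_cl h hP hδ hX (hα i) (ht i) (hβ' i) (hl i)

end K306.FibProj
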