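import Groth.Agent.Cyc.K306.GrPoly
import Groth.Agent.Cyc.K306.FibProj
import Groth.Agent.EGA2.K43.RelTw
import Groth.Agent.EGA2.K36.SymAlg
import Groth.Agent.Ega2.H18.PnExist
import Groth.Agent.SDiv.K474.FittLoc
import Groth.Agent.Sga5.ProjSmooth
import Groth.Agent.Flat2E.EtaleResidueExt
import Groth.Agent.EGA2.K35.RelProjBasic

/-!
# Projective bundles of locally free modules are fibrewise projective spaces

For the relative Proj of the symmetric algebra of a locally free module of rank `n + 1`, with its fundamental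
sheaf: `K306.FibProj p O1 n`.
-/

set_option autoImplicit false
universe u
open CategoryTheory CategoryTheory.Limits AlgebraicGeometry TopologicalSpace Opposite
open scoped HomogeneousIdeal

noncomputable section

namespace K306.RelProjFib

open CohB1 K37 Groth.Agent.EGA2.K32.ProjProper Groth.Agent.CohqB.ProjBC K306.GrPoly K306.Hyper
open Groth.Agent.Fdesc.LocGen K43.GrFrac K43.RelTw RelProj
open Groth.Agent Groth.Agent.VarietyB Groth.Agent.VarietyB.ProjGlue

section ring

variable {A σ : Type u} [CommRing A] [SetLike σ A] [AddSubgroupClass σ A] {𝒜 : ℕ → σ} [GradedRing 𝒜]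
  {R : Type u} [CommRing R] (ρ : R →+* 𝒜 0) {n : ℕ} {t : Fin (n + 1) → A} (ht : ∀ i, t i ∈ 𝒜 1)
  (hb : Function.Bijective (ev ρ t)) {K : Type u} [CommRing K] (φ : R →+* K)

theorem preimage_basicOpen (i : Fin (n + 1)) : projMap ρ ht hb φ ⁻¹ᵁ (Proj.basicOpen 𝒜 (t i)) =
    Proj.basicOpen (polyGrading n K) (MvPolynomial.X i) := by
  change Proj.basicOpen (polyGrading n K) (toPoly ρ ht hb φ (t i)) = _
  rw [toPoly_t]

/-- The quotient `t_j / t_i`. -/
def quo {n : ℕ} {t : Fin (n + 1) → A} (ht : ∀ i, t i ∈ 𝒜 1) (i j : Fin (n + 1)) :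
    Γ(Proj 𝒜, Proj.basicOpen 𝒜 (t i)) :=
  (Proj.awayToSection 𝒜 (t i)).hom (HomogeneousLocalization.Away.mk 𝒜 (ht i) 1 (t j) (by simpa using ht j))

theorem quo_val (i j : Fin (n + 1)) (x : Proj.basicOpen 𝒜 (t i)) :
    ((show GrTwist.O (𝒜 := 𝒜) (op (Proj.basicOpen 𝒜 (t i))) from quo ht i j).1 x).val =
      (Localization.mk (t j) ⟨t i, x.2⟩ : GrTwist.Loc 𝒜 x.1) := by
  refine (ProjectiveSpectrum.Proj.awayToSection_apply (𝒜 := 𝒜) (t i) _ x).trans ?_
  rw [HomogeneousLocalization.Away.val_mk, Localization.mk_eq_mk', IsLocalization.map_mk', Localization.mk_eq_mk']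
  congr 1
  exact Subtype.ext (pow_one (t i))

theorem app_quo (i j : Fin (n + 1)) :
    (projMap ρ ht hb φ).app (Proj.basicOpen 𝒜 (t i)) (quo ht i j) =
      ores (preimage_basicOpen ρ ht hb φ i).le (ProjStd.ratio (Fin (n + 1)) K i j) := by
  refine Subtype.ext (funext fun x => ?_)
  apply HomogeneousLocalization.val_injective
  have h1 := quo_val (𝒜 := 𝒜) ht i j ⟨ProjectiveSpectrum.comap (toPoly ρ ht hb φ) (irrelevant_le_map ρ ht hb φ) x.1, x.2⟩
  refine Eq.trans (HomogeneousLocalization.val_localRingHom (f := toPoly ρ ht hb φ) _) ?_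
  refine Eq.trans (congrArg _ h1) ?_
  refine Eq.trans (Localization.localRingHom_mk _ _ _ _ _ _) ?_
  refine Eq.trans ?_ (ProjStd.ratio_apply (Fin (n + 1)) K i j ⟨x.1, (preimage_basicOpen ρ ht hb φ i).le x.2⟩).symm
  refine Localization.mk_eq_mk_iff.mpr ((Localization.r_iff_exists).mpr ⟨1, ?_⟩)
  have h2 : (toPoly ρ ht hb φ : A →+* MvPolynomial (Fin (n + 1)) K) (t i) = MvPolynomial.X i :=
    toPoly_t ρ ht hb φ i
  have h3 : (toPoly ρ ht hb φ : A →+* MvPolynomial (Fin (n + 1)) K) (t j) = MvPolynomial.X j :=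
    toPoly_t ρ ht hb φ j
  simp only [OneMemClass.coe_one, one_mul]
  rw [h2, h3]

end ring

section chart

variable {S P : Scheme.{u}} {𝒮 : QCGrAlg S} {p : P ⟶ S}
  {chart : ∀ (U : S.Opens) (hU : IsAffineOpen U), (((p ⁻¹ᵁ U : P.Opens) : Scheme.{u}) ≅ Proj (𝒮.deg U hU))}
  (hP : IsRelProj 𝒮 p chart) {L : P.Modules}
  {lam : ∀ (U : S.Opens) (hU : IsAffineOpen U),
    L ⟶ (Scheme.Modules.pushforward (emb p chart U hU)).obj (GrTwist.twist (𝒮.deg U hU) 1)}
  (hL : IsRelTwist 𝒮 p chart 1 L lam)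
  {U : S.Opens} (hU : IsAffineOpen U) {n : ℕ} {t : Fin (n + 1) → 𝒮.presheaf.obj (op U)}
  (ht : ∀ i, t i ∈ 𝒮.deg U hU 1)
  (hb : Function.Bijective (ev (𝒜 := 𝒮.deg U hU) (𝒮.strZero U hU).hom t)) {K : Type u} [CommRing K]
  (φ : Γ(S, U) →+* K)

/-- The morphism `P^n_K ⟶ P`. -/
def fibMap : ProjSpace n K ⟶ P := projMap (𝒮.strZero U hU).hom ht hb φ ≫ emb p chart U hU

include hP in
theorem isPullback_fromSpec :
    IsPullback (emb p chart U hU) (Proj.toSpecZero (𝒮.deg U hU) ≫ Spec.map (𝒮.strZero U hU)) p hU.fromSpec := by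
  refine (IsOpenImmersion.isPullback (Proj.toSpecZero (𝒮.deg U hU) ≫ Spec.map (𝒮.strZero U hU))
    (emb p chart U hU) hU.fromSpec p ?_ ?_).flip
  · rw [K35.RelProjBasic.emb_p hP, Category.assoc]
  · rw [K35.RelProjBasic.opensRange_emb, hU.opensRange_fromSpec]

include hP in
theorem isPullback_fibMap :
    IsPullback (fibMap (chart := chart) hU ht hb φ) (ProjSpace.toSpec n K) p
      (Spec.map (CommRingCat.ofHom φ) ≫ hU.fromSpec) :=
  (isPullback_projMap (𝒮.strZero U hU).hom ht hb φ).paste_horiz (isPullback_fromSpec hP hU)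

theorem fibMap_preimage (i : Fin (n + 1)) :
    fibMap (chart := chart) hU ht hb φ ⁻¹ᵁ (Dp chart hU (t i)) =
      Proj.basicOpen (polyGrading n K) (MvPolynomial.X i) := by
  rw [← preimage_basicOpen (𝒮.strZero U hU).hom ht hb φ, ← emb_preimage_Dp (chart := chart) hU]
  rfl

theorem fibMap_iSup : ⨆ i, fibMap (chart := chart) hU ht hb φ ⁻¹ᵁ (Dp chart hU (t i)) = ⊤ := by
  rw [eq_top_iff]
  intro x _
  obtain ⟨i, hi⟩ := Ega2.VeryAmpleAmple.exists_notMem_X (x : ProjectiveSpectrum (polyGrading n K))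
  refine Opens.mem_iSup.mpr ⟨i, ?_⟩
  rw [fibMap_preimage]
  exact hi

include hL in
/-- The quotients of the sections `t_j`. -/
theorem exists_quo (i j : Fin (n + 1)) : ∃ c : Γ(P, Dp chart hU (t i)),
    (res L (Dp_le (chart := chart) hU (t i)) (can hL hU (rfl : ((1 : ℕ) : ℤ) = 1) ⟨t j, ht j⟩) =
      c • res L (Dp_le (chart := chart) hU (t i)) (can hL hU (rfl : ((1 : ℕ) : ℤ) = 1) ⟨t i, ht i⟩)) ∧
      (emb p chart U hU).app (Dp chart hU (t i)) c = ores (emb_preimage_Dp hU (t i)).le (quo ht i j) := by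
  obtain ⟨c, hc⟩ := (bijective_app (emb p chart U hU) (le_opensRange chart hU (Dp_le hU (t i)))).2
    (ores (emb_preimage_Dp hU (t i)).le (quo ht i j))
  refine ⟨c, ?_, hc⟩
  rw [rdU_ratio hL hU rfl (f := ⟨t i, ht i⟩) (Dp_le hU (t i)) ⟨t j, ht j⟩ c, hc]
  have h1 := awayToSection_mk_smul (𝒜 := 𝒮.deg U hU) (ht i) (n := 1) rfl (t j) (ht j)
  have h2 := congrArg (res (GrTwist.twist (𝒮.deg U hU) 1) (emb_preimage_Dp (chart := chart) hU (t i)).le) h1
  rw [res_smul, res_globSec, res_globSec] at h2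
  exact h2

theorem fibMap_app (i j : Fin (n + 1)) (c : Γ(P, Dp chart hU (t i)))
    (hc : (emb p chart U hU).app (Dp chart hU (t i)) c =
      ores (emb_preimage_Dp (chart := chart) hU (t i)).le (quo ht i j)) :
    (fibMap (chart := chart) hU ht hb φ).app (Dp chart hU (t i)) c =
      ores (fibMap_preimage hU ht hb φ i).le (ProjStd.ratio (Fin (n + 1)) K i j) := by
  have h1 := app_quo (𝒮.strZero U hU).hom ht hb φ i j
  have h2 := congrArg (ores (X := ProjSpace n K) (U := projMap (𝒮.strZero U hU).hom ht hb φ ⁻¹ᵁ Proj.basicOpen (𝒮.deg U hU) (t i)) 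
    (V := fibMap (chart := chart) hU ht hb φ ⁻¹ᵁ (Dp chart hU (t i))) 
    ((projMap (𝒮.strZero U hU).hom ht hb φ).preimage_mono (emb_preimage_Dp (chart := chart) hU (t i)).le)) h1
  have h2' := h2.trans (ores_ores (X := ProjSpace n K) (preimage_basicOpen (𝒮.strZero U hU).hom ht hb φ i).le
    ((projMap (𝒮.strZero U hU).hom ht hb φ).preimage_mono (emb_preimage_Dp (chart := chart) hU (t i)).le)
    (ProjStd.ratio (Fin (n + 1)) K i j))
  refine Eq.trans ?_ h2'
  change (projMap (𝒮.strZero U hU).hom ht hb φ).app _ ((emb p chart U hU).app (Dp chart hU (t i)) c) = _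
  rw [hc]
  have h3 := (projMap (𝒮.strZero U hU).hom ht hb φ).naturality
    (homOfLE (emb_preimage_Dp (chart := chart) hU (t i)).le).op
  exact congr(($h3).hom (quo ht i j))

include hL in
/-- The fundamental sheaf restricts to `O(1)`. -/
theorem nonempty_iso : Nonempty ((Scheme.Modules.pullback (fibMap (chart := chart) hU ht hb φ)).obj L ≅ O1 n K) := by
  let g := fibMap (chart := chart) hU ht hb φ
  have hg : g = fibMap (chart := chart) hU ht hb φ := rfl
  let V : Fin (n + 1) → (ProjSpace n K).Opens := fun i => g ⁻¹ᵁ (Dp chart hU (t i))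
  have hV : ∀ i, V i = Proj.basicOpen (polyGrading n K) (MvPolynomial.X i) := fibMap_preimage hU ht hb φ
  choose c hc hc' using exists_quo hL hU ht
  let s : ∀ i, Γ(L, Dp chart hU (t i)) := fun i =>
    res L (Dp_le (chart := chart) hU (t i)) (can hL hU (rfl : ((1 : ℕ) : ℤ) = 1) ⟨t i, ht i⟩)
  obtain ⟨τ, -⟩ := Ega2.IsoCocycle.exists_iso (M := (Scheme.Modules.pullback g).obj L) (N := O1 n K) (U := V)
    (fibMap_iSup hU ht hb φ) (e := fun i => pullSec g (s i))
    (e' := fun i => res (O1 n K) (hV i).le (Ega2.VeryAmpleCrit.gen K i))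
    (fun i => (isGen_can hL hU (rfl : ((1 : ℕ) : ℤ) = 1) ⟨t i, ht i⟩ le_rfl).pullSec g)
    (fun i => (Ega2.VeryAmpleCrit.isGen_gen i).res (hV i).le) (by
      intro j i
      refine ⟨ores inf_le_right (g.app (Dp chart hU (t i)) (c i j)), ?_, ?_⟩
      · have h1 : res ((Scheme.Modules.pullback g).obj L) (g.preimage_mono (Dp_le (chart := chart) hU (t i)))
            (pullSec g (can hL hU (rfl : ((1 : ℕ) : ℤ) = 1) ⟨t j, ht j⟩)) =
            (g.app (Dp chart hU (t i)) (c i j) : Γ(ProjSpace n K, g ⁻¹ᵁ Dp chart hU (t i))) • pullSec g (s i) := by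
          rw [res_pullSec, ← pullSec_smul, ← hc]
        have h2 := congrArg (res ((Scheme.Modules.pullback g).obj L) (inf_le_right : V j ⊓ V i ≤ V i)) h1
        rw [res_smul] at h2
        refine Eq.trans ?_ h2
        change res _ _ (pullSec g (res L _ _)) = _
        rw [← res_pullSec]
        exact (res_res _ _ _ _).trans (res_res _ _ _ _).symm
      · rw [fibMap_app hU ht hb φ i j (c i j) (hc' i j)]
        have h1 := Ega2.VeryAmpleCrit.gen_rel (R := K) i j
        have h2 : V j ⊓ V i ≤ Proj.basicOpen (polyGrading n K) (MvPolynomial.X i) ⊓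
            Proj.basicOpen (polyGrading n K) (MvPolynomial.X j) :=
          le_inf (inf_le_right.trans (hV i).le) (inf_le_left.trans (hV j).le)
        have h3 := (congrArg (res (O1 n K) h2) h1).trans (res_smul _ _ _ _)
        refine Eq.trans ?_ (h3.trans ?_)
        · exact (res_res _ _ _ _).trans (res_res _ _ _ _).symm
        · refine congr (congrArg _ ?_) ?_
          · exact (ores_ores _ _ _).trans (ores_ores _ _ _).symm
          · exact (res_res _ _ _ _).trans (res_res _ _ _ _).symm)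
  exact ⟨τ⟩

include ht hb in
theorem flat_toSpecO : Flat (K35.RelProjExists.toSpecO 𝒮 U hU) := by
  have h1 := isPullback_projMap (𝒮.strZero U hU).hom ht hb (RingHom.id Γ(S, U))
  have h2 : IsIso (projMap (𝒮.strZero U hU).hom ht hb (RingHom.id Γ(S, U))) := by
    have h3 : Spec.map (CommRingCat.ofHom (RingHom.id Γ(S, U))) = 𝟙 _ := Spec.map_id _
    rw [h3] at h1
    exact h1.isIso_fst_of_isIso
  have h4 : K35.RelProjExists.toSpecO 𝒮 U hU = inv (projMap (𝒮.strZero U hU).hom ht hb (RingHom.id Γ(S, U))) ≫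
      ProjSpace.toSpec n Γ(S, U) := by
    rw [IsIso.eq_inv_comp]
    have h5 := h1.w
    have h3 : Spec.map (CommRingCat.ofHom (RingHom.id Γ(S, U))) = 𝟙 _ := Spec.map_id _
    rw [h3, Category.comp_id] at h5
    exact h5
  have h6 : Smooth (ProjSpace.toSpec n Γ(S, U)) := (Sga5.ProjSmooth.smooth_toSpec n Γ(S, U)).smooth
  rw [h4]
  infer_instance

end chart

section bundle

variable {S P : Scheme.{u}} {𝒮 : QCGrAlg S} {p : P ⟶ S}
  {chart : ∀ (U : S.Opens) (hU : IsAffineOpen U), (((p ⁻¹ᵁ U : P.Opens) : Scheme.{u}) ≅ Proj (𝒮.deg U hU))}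

theorem bijective_ev {E : S.Modules} (hq : Coh.IsQCoh E) {j : E ⟶ 𝒮.toModule} (hS : IsGrSymAlg E 𝒮 j)
    {U : S.Opens} (hU : IsAffineOpen U) {n : ℕ} (b : Module.Basis (Fin (n + 1)) Γ(S, U) Γ(E, U)) :
    Function.Bijective (ev (𝒜 := 𝒮.deg U hU) (𝒮.strZero U hU).hom
      (fun i => K36.SymAlg.jApp E 𝒮.toQCAlg j U (b i))) := by
  have h1 := K36.SymAlg.bijective_symHom hq hS.1 U hU
  have h2 : ev (𝒜 := 𝒮.deg U hU) (𝒮.strZero U hU).hom (fun i => K36.SymAlg.jApp E 𝒮.toQCAlg j U (b i)) =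
      (K36.SymAlg.symHom E 𝒮.toQCAlg j U).comp
        (SymmetricAlgebra.equivMvPolynomial b).symm.toAlgHom.toRingHom := by
    refine MvPolynomial.ringHom_ext (fun r => ?_) (fun i => ?_)
    · rw [ev_C]
      change _ = K36.SymAlg.symHom E 𝒮.toQCAlg j U ((SymmetricAlgebra.equivMvPolynomial b).symm (MvPolynomial.C r))
      have h3 : (SymmetricAlgebra.equivMvPolynomial b).symm (MvPolynomial.C r) =
          algebraMap Γ(S, U) _ r := (SymmetricAlgebra.equivMvPolynomial b).symm.commutes r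
      rw [h3, K36.SymAlg.symHom_algebraMap]
      rfl
    · rw [ev_X]
      change _ = K36.SymAlg.symHom E 𝒮.toQCAlg j U ((SymmetricAlgebra.equivMvPolynomial b).symm (MvPolynomial.X i))
      rw [SymmetricAlgebra.equivMvPolynomial_symm_X, K36.SymAlg.symHom_ι]
  rw [h2]
  exact h1.comp (SymmetricAlgebra.equivMvPolynomial b).symm.bijective

/-- The relative Proj of the symmetric algebra of a locally free module of rank `n + 1`, with its fundamental sheaf. -/
theorem fibProj {E : S.Modules} (hq : Coh.IsQCoh E) {n : ℕ} (hE : FlatMod.IsFinLocFreeOfRank (n + 1) E)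
    {j : E ⟶ 𝒮.toModule} (hS : IsGrSymAlg E 𝒮 j) (hP : IsRelProj 𝒮 p chart) {O1' : P.Modules}
    {lam : ∀ (U : S.Opens) (hU : IsAffineOpen U),
      O1' ⟶ (Scheme.Modules.pushforward (emb p chart U hU)).obj (GrTwist.twist (𝒮.deg U hU) 1)}
    (hL : IsRelTwist 𝒮 p chart 1 O1' lam) (hinv : PicF.IsInvertible O1') [IsProper p] : FibProj p O1' n := by
  choose U hU b hxU hbas using SDiv.K474.FittLoc.exists_affine_isBas E hE
  refine ⟨inferInstance, ?_, hinv, fun x => ?_⟩
  · have hloc : IsZariskiLocalAtTarget (@Flat.{u}) :=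
      HasRingHomProperty.instIsZariskiLocalAtTarget @Flat (Q := RingHom.Flat)
    rw [IsZariskiLocalAtTarget.iff_of_iSup_eq_top (P := @Flat) U
      (eq_top_iff.mpr fun x _ => Opens.mem_iSup.mpr ⟨x, hxU x⟩)]
    intro x
    rw [K35.RelProjBasic.restrict_eq hP (U x) (hU x)]
    have := flat_toSpecO (hU x) (fun i => hS.2 (U x) (hU x) (b x i)) (bijective_ev hq hS (hU x) (b x))
    infer_instance
  · let φ : Γ(S, U x) →+* S.residueField x := (S.evaluation (U x) x (hxU x)).hom
    have ht := fun i => hS.2 (U x) (hU x) (b x i)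
    have hb := bijective_ev hq hS (hU x) (b x)
    refine ⟨fibMap (chart := chart) (hU x) ht hb φ, ?_, nonempty_iso hL (hU x) ht hb φ⟩
    have h1 := isPullback_fibMap hP (hU x) ht hb φ
    have h2 : Spec.map (CommRingCat.ofHom φ) ≫ (hU x).fromSpec = S.fromSpecResidueField x :=
      Flat2E.EtaleResidueExt.SpecMap_evaluation_fromSpec (hU x) x (hxU x)
    rw [h2] at h1
    exact h1

end bundle

end K306.RelProjFib
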